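import Groth.Agent.NagataLib.CharP
import Groth.Agent.CohenLib.GeomRed
import Groth.Agent.S2471
import Groth.Agent.PerfectFieldLib.FormallySmooth
import Groth.Agent.CplExcLib.J0
import Groth.Agent.S4574

/-!
# The Jacobian criterion of Nagata
-/

set_option autoImplicit false
set_option linter.style.haveILetI false
set_option maxHeartbeats 1600000
set_option synthInstance.maxHeartbeats 200000

universe u

open IsLocalRing Groth.Agent

namespace NagataLib

/-- A derivation killing the base as a derivation over the base. -/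
def ofAbs {k A : Type u} [CommRing k] [CommRing A] [Algebra k A] (D : Derivation ℤ A A)
    (h : ∀ c, D (algebraMap k A c) = 0) : Derivation k A A :=
  Derivation.mk'
    { toFun := D
      map_add' := map_add D
      map_smul' := fun c a => by
        rw [Algebra.smul_def, Derivation.leibniz, h, smul_zero, add_zero, smul_eq_mul, RingHom.id_apply,
          Algebra.smul_def] } D.leibniz

theorem ofAbs_apply {k A : Type u} [CommRing k] [CommRing A] [Algebra k A] (D : Derivation ℤ A A)
    (h : ∀ c, D (algebraMap k A c) = 0) (a : A) : ofAbs D h a = D a := rfl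

/-- Formal smoothness passes to the composite with a geometrically reduced field extension. -/
theorem adicFS_of_separable {k K₀ A : Type u} [Field k] [Field K₀] [Algebra k K₀]
    [Algebra.IsGeometricallyReduced k K₀] [CommRing A] [Algebra k A] [Algebra K₀ A] [IsScalarTower k K₀ A]
    (I : Ideal A) (h : CAlgX.IsAdicFormallySmooth K₀ A I) : CAlgX.IsAdicFormallySmooth k A I := by
  haveI := CohenLib.formallySmooth_of_isGeometricallyReduced k K₀
  intro C _ _ J hJ ψ hψ
  obtain ⟨g, hg⟩ := Algebra.FormallySmooth.comp_surjective k K₀ J hJ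
    (ψ.comp (IsScalarTower.toAlgHom k K₀ A))
  letI : Algebra K₀ C := g.toRingHom.toAlgebra
  let ψ' : A →ₐ[K₀] C ⧸ J :=
    { ψ.toRingHom with commutes' := fun c => (AlgHom.congr_fun hg c).symm }
  obtain ⟨χ, hχ⟩ := h C J hJ ψ' hψ
  refine ⟨{ χ.toRingHom with commutes' := fun c => ?_ }, AlgHom.ext fun a => AlgHom.congr_fun hχ a⟩
  show χ (algebraMap k A c) = _
  rw [IsScalarTower.algebraMap_apply k K₀ A, χ.commutes]
  exact g.commutes c

section Structure

variable {A : Type u} [CommRing A] [IsLocalRing A] [IsNoetherianRing A] [IsAdicComplete (maximalIdeal A) A]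

/-- A complete regular local ring of characteristic `p` is a power series ring over its residue field. -/
theorem exists_equiv_powerSeries [IsRegularLocalRing A] (p : ℕ) [hp : Fact p.Prime] [CharP A p] :
    ∃ r : ℕ, Nonempty (MvPowerSeries (Fin r) (ResidueField A) ≃+* A) := by
  classical
  obtain ⟨Λ, _, _, g, hg, hcase, -, -, -⟩ := CohenLib.exists_coefficient_ring' A
  have hF : IsField Λ := by
    refine hcase.resolve_right fun ⟨_, q, hq, _, hq0, hqm⟩ => ?_
    have hqp : (q : ℕ) ≠ p := fun h => hq0 (h ▸ CharP.cast_eq_zero A p)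
    have hu : IsUnit (q : A) :=
      (CharP.isUnit_natCast_iff hp.out).2 fun h => hqp ((Nat.prime_dvd_prime_iff_eq hp.out hq).1 h).symm
    exact hqm hu
  letI : Field Λ := hF.toField
  let σ := RingEquiv.ofBijective ((residue A).comp g) ⟨((residue A).comp g).injective, hg⟩
  let g' : ResidueField A →+* A := g.comp σ.symm.toRingHom
  have hfg : (maximalIdeal A).FG := IsNoetherian.noetherian _
  haveI := (Submodule.FG.finite_generators hfg).fintype
  let d := Fintype.card (maximalIdeal A).generators
  let x : Fin d → A := fun i => ((Fintype.equivFin (maximalIdeal A).generators).symm i).1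
  have hd : (maximalIdeal A).spanFinrank = d := by
    rw [← Submodule.FG.generators_ncard hfg, Set.ncard_eq_toFinset_card', Set.toFinset_card]
  have hxspan : Ideal.span (Set.range x) = maximalIdeal A := by
    conv_rhs => rw [← Submodule.span_generators (maximalIdeal A)]
    congr 1
    ext y
    exact ⟨fun ⟨i, hi⟩ => hi ▸ ((Fintype.equivFin _).symm i).2,
      fun hy => ⟨Fintype.equivFin _ ⟨y, hy⟩, by simp [x]⟩⟩
  let π := CohenLib.psHom (maximalIdeal A) g' x fun i => hxspan ▸ Ideal.subset_span ⟨i, rfl⟩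
  have hmap : (CohenLib.varsIdeal (ResidueField A) d).map π = maximalIdeal A := by
    rw [CohenLib.varsIdeal, Ideal.map_span, ← Set.range_comp, ← hxspan]
    congr 2
    funext i
    exact CohenLib.psHom_X _ _ _ _ i
  haveI := CohenLib.isAdicComplete_varsIdeal (n := d) (ResidueField A)
  have hπ : Function.Surjective π := CohenLib.surjective_of_complete (I := maximalIdeal A) _ π hmap fun a => by
    refine ⟨MvPowerSeries.C (residue A a), ?_⟩
    rw [CohenLib.psHom_C, ← residue_eq_zero_iff, map_sub, sub_eq_zero]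
    exact (σ.apply_symm_apply _).symm
  exact ⟨d, ⟨RingEquiv.ofBijective π (CohenLib.bijective_of_regular _ π hπ hd)⟩⟩

end Structure

section Rows

variable {A : Type u} [CommRing A] [IsNoetherianRing A] (q p : Ideal A) [p.IsPrime]
  [(p.map (Ideal.Quotient.mk q)).IsPrime]

/-- At a regular point the Jacobian of minimal generators has independent columns. -/
theorem jacobian_injective (hqp : q ≤ p) [IsRegularLocalRing (Localization.AtPrime p)]
    (hreg : IsRegularLocalRing (Localization.AtPrime (p.map (Ideal.Quotient.mk q))))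
    {ι : Type*} (D : ι → Derivation ℤ A A) (hD : DetectsPrime p D) :
    ∃ (m : ℕ) (f : Fin m → A), (∀ i, f i ∈ q) ∧
      q.map (algebraMap A (Localization.AtPrime p)) =
        Ideal.span (Set.range fun i => algebraMap A (Localization.AtPrime p) (f i)) ∧
      ∀ c : Fin m → p.ResidueField, (∀ i, ∑ j, c j * algebraMap A p.ResidueField (D i (f j)) = 0) → c = 0 := by
  classical
  obtain ⟨m, σ, f, hf, hgen, hdet⟩ := hasJacobian_of_regular q p hqp D hD hreg
  refine ⟨m, f, hf, hgen, fun c hc => ?_⟩
  let M : Matrix (Fin m) (Fin m) p.ResidueField :=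
    (Matrix.of fun i j => D (σ i) (f j)).map (algebraMap A p.ResidueField)
  refine Matrix.eq_zero_of_mulVec_eq_zero (M := M) ?_ (funext fun i => ?_)
  · show ((algebraMap A p.ResidueField).mapMatrix (Matrix.of fun i j => D (σ i) (f j))).det ≠ 0
    rw [← RingHom.map_det]
    exact fun h => hdet (Ideal.algebraMap_residueField_eq_zero.1 h)
  · rw [Pi.zero_apply, ← hc (σ i), Matrix.mulVec, dotProduct]
    exact Finset.sum_congr rfl fun j _ => mul_comm _ _

end Rows

/-- A field finite over its `p`-th powers has a finite `p`-basis with dual derivations. -/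
theorem exists_finite_pBasis (p : ℕ) [Fact p.Prime] {k : Type u} [Field k] [CharP k p] [ExpChar k p]
    (hk : Module.Finite (frobenius k p).fieldRange k) :
    ∃ (e : ℕ) (b : Fin e → k) (d : Fin e → Derivation ℤ k k), (∀ i j, d i (b j) = if i = j then 1 else 0) ∧
      ∀ S : Subring k, (∀ y, y ^ p ∈ S) → (∀ j, b j ∈ S) → ∀ c, c ∈ S := by
  classical
  let F := (frobenius k p).fieldRange
  haveI : Module.Finite F k := hk
  obtain ⟨e, b, d, -, hd, hgen, -⟩ := exists_coeff_basis p F fun x => ⟨x, rfl⟩
  refine ⟨e, b, d, hd, fun S hS hb => hgen S ?_ hb⟩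
  rintro _ ⟨y, rfl⟩
  exact hS y

section CharP

variable (p : ℕ) [Fact p.Prime] {k A : Type u} [Field k] [CharP k p] [ExpChar k p] [CommRing A] [IsLocalRing A]
  [IsNoetherianRing A] [IsAdicComplete (maximalIdeal A) A] [Algebra k A]

include p in
/-- The forward direction in characteristic `p`. -/
theorem exists_jacobian_charP (hk : Module.Finite (frobenius k p).fieldRange k)
    (hA : CAlgX.IsAdicFormallySmooth k A (maximalIdeal A)) (q 𝔭 : Ideal A) [𝔭.IsPrime] (hq : q ≤ 𝔭)
    [(𝔭.map (Ideal.Quotient.mk q)).IsPrime]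
    (hB : CAlgX.IsAdicFormallySmooth k (Localization.AtPrime (𝔭.map (Ideal.Quotient.mk q)))
      (maximalIdeal (Localization.AtPrime (𝔭.map (Ideal.Quotient.mk q))))) :
    ∃ (m : ℕ) (D : Fin m → Derivation k A A) (f : Fin m → A), (∀ i, f i ∈ q) ∧
      q.map (algebraMap A (Localization.AtPrime 𝔭)) =
        Ideal.span (Set.range fun i => algebraMap A (Localization.AtPrime 𝔭) (f i)) ∧
      Matrix.det (Matrix.of fun i j => D i (f j)) ∉ 𝔭 := by
  classical
  let Ap := Localization.AtPrime 𝔭
  let L := 𝔭.ResidueField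
  haveI : IsRegularLocalRing A := (Groth.Agent.S2471.result.1 hA).1
  haveI : IsRegularLocalRing Ap := (Groth.Agent.S2471.result.1 (Groth.Agent.S4574.result hA 𝔭)).1
  haveI : IsNoetherianRing (A ⧸ q) := inferInstance
  have hreg : IsRegularLocalRing (Localization.AtPrime (𝔭.map (Ideal.Quotient.mk q))) :=
    (Groth.Agent.S2471.result.1 hB).1
  haveI : CharP A p := charP_of_injective_ringHom (algebraMap k A).injective p
  haveI : CharP (ResidueField A) p := charP_of_injective_ringHom (algebraMap k (ResidueField A)).injective p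
  obtain ⟨r, ⟨eA⟩⟩ := exists_equiv_powerSeries (A := A) p
  obtain ⟨e, b, d, hd, hgen⟩ := exists_finite_pBasis p hk
  have hker : ∀ a, algebraMap A L a = 0 ↔ a ∈ 𝔭 := fun a => Ideal.algebraMap_residueField_eq_zero
  -- generators with independent columns
  obtain ⟨N₀, D₀, hD₀, -⟩ := exists_detect p eA 𝔭 (L := L) Ap residue_surjective hker (n := 0) Fin.elim0
  obtain ⟨m, f, hf, hfgen, hfinj⟩ := jacobian_injective q 𝔭 hq hreg D₀ hD₀
  let x : Fin (m + e) → A := Fin.append f fun j => algebraMap k A (b j)
  obtain ⟨N, D, hD, hsep⟩ := exists_detect p eA 𝔭 (L := L) Ap residue_surjective hker x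
  -- derivations of the base extend
  obtain ⟨π, hπs, hπk, hπa⟩ := exists_toQuotient q 𝔭 hq
  let Bp := Localization.AtPrime (𝔭.map (Ideal.Quotient.mk q))
  have hkerπ : RingHom.ker π ≤ RingHom.ker (algebraMap Ap L) := by
    rw [hπk, Ideal.map_le_iff_le_comap]
    intro a ha
    rw [Ideal.mem_comap, RingHom.mem_ker, ← IsScalarTower.algebraMap_apply, hker]
    exact hq ha
  let ψ₀ : Bp →+* L := RingHom.liftOfSurjective π hπs ⟨algebraMap Ap L, hkerπ⟩
  have hψ₀ : ∀ a, ψ₀ (algebraMap (A ⧸ q) Bp (Ideal.Quotient.mk q a)) = algebraMap A L a := fun a => by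
    rw [← hπa, IsScalarTower.algebraMap_apply A Ap L]
    exact RingHom.liftOfRightInverse_comp_apply π _ _ ⟨algebraMap Ap L, hkerπ⟩ _
  have hψmax : ∀ z ∈ maximalIdeal Bp, ψ₀ z = 0 := by
    intro z hz
    obtain ⟨y, rfl⟩ := hπs z
    rw [show ψ₀ (π y) = algebraMap Ap L y from RingHom.liftOfRightInverse_comp_apply π _ _ ⟨algebraMap Ap L, hkerπ⟩ y]
    exact (residue_eq_zero_iff y).2 fun hu => hz (hu.map π)
  have hext : ∀ dk : Derivation ℤ k k, ∃ δ : Derivation ℤ A L,
      (∀ j, δ (f j) = 0) ∧ ∀ c, δ (algebraMap k A c) = algebraMap k L (dk c) := by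
    intro dk
    let σ : k →+* TrivSqZeroExt L L :=
      { toFun := fun c => TrivSqZeroExt.inl (algebraMap k L c) + TrivSqZeroExt.inr (algebraMap k L (dk c))
        map_one' := by ext <;> simp
        map_mul' := fun a b => by
          ext <;> simp [mul_comm]
          all_goals ring
        map_zero' := by ext <;> simp
        map_add' := fun a b => by
          ext <;> simp
          all_goals ring }
    letI : Algebra k (TrivSqZeroExt L L) := σ.toAlgebra
    let J : Ideal (TrivSqZeroExt L L) := RingHom.ker (TrivSqZeroExt.fstHom L L L).toRingHom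
    have hJ : J ^ 2 = ⊥ := by
      rw [eq_bot_iff, pow_two, Ideal.mul_le]
      intro y hy z hz
      rw [Ideal.mem_bot]
      have hy' : y.fst = 0 := hy
      have hz' : z.fst = 0 := hz
      ext <;> simp [hy', hz']
    have hψk : ∀ c : k, ψ₀ (algebraMap k Bp c) = algebraMap k L c := fun c => by
      rw [IsScalarTower.algebraMap_apply k (A ⧸ q) Bp, ← Ideal.Quotient.mk_algebraMap, hψ₀,
        ← IsScalarTower.algebraMap_apply]
    let ψ : Bp →ₐ[k] TrivSqZeroExt L L ⧸ J :=
      { ((Ideal.Quotient.mk J).comp (TrivSqZeroExt.inlHom L L)).comp ψ₀ with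
        commutes' := fun c => by
          show Ideal.Quotient.mk J (TrivSqZeroExt.inl (ψ₀ (algebraMap k Bp c))) = Ideal.Quotient.mk J (σ c)
          rw [Ideal.Quotient.eq, hψk]
          show (TrivSqZeroExt.inl (algebraMap k L c) - σ c).fst = 0
          simp [σ] }
    obtain ⟨χ, hχ⟩ := hB (TrivSqZeroExt L L) J hJ ψ ⟨1, fun z hz => by
      rw [pow_one] at hz
      show Ideal.Quotient.mk J (TrivSqZeroExt.inl (ψ₀ z)) = 0
      rw [hψmax z hz, TrivSqZeroExt.inl_zero, map_zero]⟩
    let χA : A →+* TrivSqZeroExt L L := χ.toRingHom.comp ((algebraMap (A ⧸ q) Bp).comp (Ideal.Quotient.mk q))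
    have hfst : ∀ a, (χA a).fst = algebraMap A L a := fun a => by
      have h := AlgHom.congr_fun hχ (algebraMap (A ⧸ q) Bp (Ideal.Quotient.mk q a))
      change Ideal.Quotient.mk J (χA a) = Ideal.Quotient.mk J (TrivSqZeroExt.inl (ψ₀ _)) at h
      rw [Ideal.Quotient.eq, hψ₀] at h
      exact sub_eq_zero.1 (by simpa [J, RingHom.mem_ker] using h)
    refine ⟨Derivation.mk' (AddMonoidHom.mk' (fun a => (χA a).snd) fun a b => by
      rw [map_add, TrivSqZeroExt.snd_add]).toIntLinearMap fun a b => ?_, fun j => ?_, fun c => ?_⟩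
    · show (χA (a * b)).snd = a • (χA b).snd + b • (χA a).snd
      rw [map_mul, TrivSqZeroExt.snd_mul, hfst, hfst, op_smul_eq_smul, smul_eq_mul, smul_eq_mul, Algebra.smul_def,
        Algebra.smul_def]
    · show (χA (f j)).snd = 0
      simp [χA, Ideal.Quotient.eq_zero_iff_mem.2 (hf j)]
    · show (χ (algebraMap (A ⧸ q) Bp (Ideal.Quotient.mk q (algebraMap k A c)))).snd = _
      rw [Ideal.Quotient.mk_algebraMap, ← IsScalarTower.algebraMap_apply, χ.commutes]
      show (σ c).snd = _
      simp [σ]
  -- the columns are independent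
  have hcol : ∀ c : Fin (m + e) → L, (∀ i, ∑ l, c l * algebraMap A L (D i (x l)) = 0) → c = 0 := by
    intro c hc
    have hδ := hsep c hc
    have hcb : ∀ j, c (Fin.natAdd m j) = 0 := fun j => by
      obtain ⟨δ, hδf, hδk⟩ := hext (d j)
      have h := hδ δ
      simp only [Fin.sum_univ_add, x, Fin.append_left, Fin.append_right, hδf, hδk, mul_zero, Finset.sum_const_zero,
        zero_add, hd, apply_ite (algebraMap k L), map_one, map_zero, mul_ite, mul_one] at h
      simpa using h
    have hcf : (fun i => c (Fin.castAdd e i)) = 0 := hfinj _ fun i => by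
      have h := hδ (mkDerTo ((algebraMap A L).toAddMonoidHom.comp (D₀ i).toLinearMap.toAddMonoidHom) fun a b => by
        show algebraMap A L (D₀ i (a * b)) = a • algebraMap A L (D₀ i b) + b • algebraMap A L (D₀ i a)
        rw [Derivation.leibniz, smul_eq_mul, smul_eq_mul, map_add, map_mul, map_mul, Algebra.smul_def,
          Algebra.smul_def])
      simp only [Fin.sum_univ_add, x, Fin.append_left, Fin.append_right, hcb, zero_mul, Finset.sum_const_zero,
        add_zero] at h
      exact h
    funext l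
    induction l using Fin.addCases with
    | left l => exact congrFun hcf l
    | right l => exact hcb l
  obtain ⟨σ, hσ⟩ := exists_minor (fun i l => algebraMap A L (D i (x l))) hcol
  let M : Matrix (Fin (m + e)) (Fin (m + e)) A := Matrix.of fun i l => D (σ i) (x l)
  have hM : M.det ∉ 𝔭 := fun h => hσ (by
    rw [← hker, RingHom.map_det] at h
    exact h)
  let D' : Fin (m + e) → Derivation ℤ A A := fun i => ∑ j, M.adjugate i j • D (σ j)
  have hD' : ∀ i a, D' i a = ∑ j, M.adjugate i j * D (σ j) a := fun i a => by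
    show Derivation.coeFnAddMonoidHom (∑ j, M.adjugate i j • D (σ j)) a = _
    rw [map_sum, Finset.sum_apply]
    rfl
  have hD'x : ∀ i l, D' i (x l) = if i = l then M.det else 0 := fun i l => by
    have h := congrArg (fun Z : Matrix (Fin (m + e)) (Fin (m + e)) A => Z i l) (Matrix.adjugate_mul M)
    simp only [Matrix.mul_apply, Matrix.smul_apply, Matrix.one_apply, smul_eq_mul, mul_ite, mul_one, mul_zero] at h
    rw [hD']
    exact h
  have hD'k : ∀ i c, D' (Fin.castAdd e i) (algebraMap k A c) = 0 := fun i c => by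
    refine hgen ((derKer (D' (Fin.castAdd e i))).comap (algebraMap k A)) (fun y => ?_) (fun j => ?_) c
    · show D' _ (algebraMap k A (y ^ p)) = 0
      rw [map_pow, Derivation.leibniz_pow, nsmul_eq_mul, CharP.cast_eq_zero, zero_mul]
    · show D' _ (algebraMap k A (b j)) = 0
      have h := hD'x (Fin.castAdd e i) (Fin.natAdd m j)
      rwa [if_neg (by simp [Fin.ext_iff]; omega), show x (Fin.natAdd m j) = algebraMap k A (b j) from
        Fin.append_right _ _ _] at h
  refine ⟨m, fun i => ofAbs (D' (Fin.castAdd e i)) (hD'k i), f, hf, hfgen, fun h => hM ?_⟩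
  have hmat : (Matrix.of fun i j : Fin m => ofAbs (D' (Fin.castAdd e i)) (hD'k i) (f j)) =
      Matrix.diagonal fun _ => M.det := by
    ext i j
    rw [Matrix.of_apply, ofAbs_apply, Matrix.diagonal_apply, show f j = x (Fin.castAdd e j) from
      (Fin.append_left _ _ _).symm, hD'x]
    simp [Fin.ext_iff]
  rw [hmat, Matrix.det_diagonal] at h
  obtain ⟨_, -, h⟩ := Ideal.IsPrime.prod_mem_iff.1 h
  exact h

end CharP

section CharZero

variable {k A : Type u} [Field k] [CharZero k] [CommRing A] [IsLocalRing A]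
  [IsNoetherianRing A] [IsAdicComplete (maximalIdeal A) A] [Algebra k A]

/-- The forward direction in characteristic zero. -/
theorem exists_jacobian_charZero (hA : CAlgX.IsAdicFormallySmooth k A (maximalIdeal A)) (q 𝔭 : Ideal A) [𝔭.IsPrime]
    (hq : q ≤ 𝔭) [(𝔭.map (Ideal.Quotient.mk q)).IsPrime]
    (hB : CAlgX.IsAdicFormallySmooth k (Localization.AtPrime (𝔭.map (Ideal.Quotient.mk q)))
      (maximalIdeal (Localization.AtPrime (𝔭.map (Ideal.Quotient.mk q))))) :
    ∃ (m : ℕ) (D : Fin m → Derivation k A A) (f : Fin m → A), (∀ i, f i ∈ q) ∧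
      q.map (algebraMap A (Localization.AtPrime 𝔭)) =
        Ideal.span (Set.range fun i => algebraMap A (Localization.AtPrime 𝔭) (f i)) ∧
      Matrix.det (Matrix.of fun i j => D i (f j)) ∉ 𝔭 := by
  classical
  haveI : IsRegularLocalRing A := (Groth.Agent.S2471.result.1 hA).1
  haveI : IsRegularLocalRing (Localization.AtPrime 𝔭) :=
    (Groth.Agent.S2471.result.1 (Groth.Agent.S4574.result hA 𝔭)).1
  have hreg : IsRegularLocalRing (Localization.AtPrime (𝔭.map (Ideal.Quotient.mk q))) :=
    (Groth.Agent.S2471.result.1 hB).1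
  haveI : Algebra.FormallySmooth k (ResidueField A) := PerfectFieldLib.formallySmooth_of_perfectField k (ResidueField A)
  obtain ⟨r, ec, hec⟩ := CohenLib.exists_equiv_of_liftsAdic (k := k) (A := A)
    fun C _ _ J hJ ψ hψ => hA C J hJ ψ hψ
  let ι := (AdicCompletion.ofAlgEquiv (maximalIdeal A) : A ≃ₐ[A] _).toRingEquiv
  let e : MvPowerSeries (Fin r) (ResidueField A) ≃+* A := (ι.trans ec).symm
  have hek : ∀ c : k, algebraMap k A c = e (MvPowerSeries.C (algebraMap k (ResidueField A) c)) := fun c => by
    rw [RingEquiv.eq_symm_apply]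
    exact hec c
  let K := ResidueField A
  let P := MvPowerSeries (Fin r) K
  let L := 𝔭.ResidueField
  -- transported partial derivatives
  let D : Fin r → Derivation ℤ A A := fun i =>
    conjDer e (MvPowerSeries.pderiv K i).toLinearMap.toAddMonoidHom fun a b =>
      (MvPowerSeries.pderiv K i).leibniz a b
  have hDC : ∀ i c, D i (e (MvPowerSeries.C c)) = 0 := fun i c => by
    refine (conjDer_apply e _ _ _).trans ?_
    show e (MvPowerSeries.pderiv K i (MvPowerSeries.C c)) = _
    rw [MvPowerSeries.pderiv_C, map_zero]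
  obtain ⟨s, φ₀, hφ₀, hφ₀fin, hφ₀C⟩ := exists_normalization (𝔭.comap e.toRingHom)
  haveI : IsDomain (MvPowerSeries (Fin s) K) := NoZeroDivisors.to_isDomain _
  let L₀ := FractionRing (P ⧸ 𝔭.comap e.toRingHom)
  let R := MvPowerSeries (Fin s) K
  letI : Algebra R (P ⧸ 𝔭.comap e.toRingHom) := φ₀.toAlgebra
  haveI : Module.Finite R (P ⧸ 𝔭.comap e.toRingHom) := hφ₀fin
  haveI : FaithfulSMul R L₀ := CplExcLib.faithfulSMul_fractionRing R _ hφ₀
  letI : Algebra (FractionRing R) L₀ := FractionRing.liftAlgebra R L₀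
  haveI : FiniteDimensional (FractionRing R) L₀ :=
    NormalLib.finiteDimensional_fractionRing (R := R) (S := P ⧸ 𝔭.comap e.toRingHom) (FractionRing R) L₀ hφ₀
  haveI : CharZero K := charZero_of_injective_ringHom (algebraMap k K).injective
  haveI : CharZero R := charZero_of_injective_ringHom (MvPowerSeries.C (σ := Fin s) (R := K)).injective
  haveI : CharZero (FractionRing R) := charZero_of_injective_ringHom (IsFractionRing.injective R _)
  have hdet₀ := detectsPrime_partials (𝔭.comap e.toRingHom) (L := L₀) (IsFractionRing.injective _ _) s φ₀ hφ₀ hφ₀fin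
    (fun c => by rw [hφ₀C]; rfl) (FractionRing R) fun g => (IsScalarTower.algebraMap_apply R _ L₀ g).symm.trans rfl
  have hdet : DetectsPrime 𝔭 D := by
    intro a ha hDa
    obtain ⟨u, hu, hmem⟩ := hdet₀ (e.symm a) (by rw [Ideal.mem_comap]; exact (e.apply_symm_apply a).symm ▸ ha) fun i => by
      show e (MvPowerSeries.pderiv K i (e.symm a)) ∈ 𝔭
      exact hDa i
    refine ⟨e u, hu, ?_⟩
    have h := Ideal.mem_map_of_mem e.toRingHom hmem
    rwa [Ideal.map_pow, Ideal.map_comap_of_surjective e.toRingHom e.surjective, map_mul,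
      show e.toRingHom (e.symm a) = a from e.apply_symm_apply a] at h
  obtain ⟨m, σ, f, hf, hgen, hdet'⟩ := hasJacobian_of_regular q 𝔭 hq D hdet hreg
  refine ⟨m, fun i => ofAbs (D (σ i)) fun c => ?_, f, hf, hgen, hdet'⟩
  rw [hek]
  exact hDC _ _

end CharZero

/-- Nagata's Jacobian criterion. -/
theorem adicFS_iff_jacobian (p : ℕ) {k A : Type u} [Field k] [ExpChar k p]
    (hk : p = 1 ∨ Module.Finite (frobenius k p).fieldRange k) [CommRing A] [IsLocalRing A] [IsNoetherianRing A]
    [IsAdicComplete (maximalIdeal A) A] [Algebra k A] (hA : CAlgX.IsAdicFormallySmooth k A (maximalIdeal A))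
    (q 𝔭 : Ideal A) [𝔭.IsPrime] (hq : q ≤ 𝔭) [(𝔭.map (Ideal.Quotient.mk q)).IsPrime] :
    CAlgX.IsAdicFormallySmooth k (Localization.AtPrime (𝔭.map (Ideal.Quotient.mk q)))
        (maximalIdeal (Localization.AtPrime (𝔭.map (Ideal.Quotient.mk q)))) ↔
      ∃ (m : ℕ) (D : Fin m → Derivation k A A) (f : Fin m → A), (∀ i, f i ∈ q) ∧
        q.map (algebraMap A (Localization.AtPrime 𝔭)) =
          Ideal.span (Set.range fun i => algebraMap A (Localization.AtPrime 𝔭) (f i)) ∧
        Matrix.det (Matrix.of fun i j => D i (f j)) ∉ 𝔭 := by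
  refine ⟨fun hB => ?_, fun ⟨m, D, f, hf, hgen, hdet⟩ => ?_⟩
  · rcases ‹ExpChar k p› with _ | ⟨hp⟩
    · exact exists_jacobian_charZero hA q 𝔭 hq hB
    · haveI := Fact.mk hp
      exact exists_jacobian_charP p (hk.resolve_left hp.ne_one) hA q 𝔭 hq hB
  · exact adicFS_of_hasJacobian q 𝔭 hq (Groth.Agent.S4574.result hA 𝔭) (fun i => toAbs (D i))
      (fun i c => (D i).map_algebraMap c) ⟨m, id, f, hf, hgen, hdet⟩

end NagataLib
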