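import Groth.Agent.NagataLib.RankCount
import Mathlib.Algebra.TrivSqZeroExt.Basic
import Mathlib.LinearAlgebra.Dual.Lemmas
import Mathlib.LinearAlgebra.Matrix.NonsingularInverse
import Mathlib.RingTheory.MvPowerSeries.Basic
import Mathlib.RingTheory.Derivation.Basic
import Mathlib.RingTheory.Localization.FractionRing

/-!
# Extensions of derivations
-/

set_option autoImplicit false
set_option linter.style.haveILetI false

universe u v w

namespace NagataLib

/-- A derivation with values in an algebra over a localisation extends to the localisation. -/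
theorem exists_extend {R : Type u} [CommRing R] (M : Submonoid R) (S : Type v) [CommRing S] [Algebra R S]
    [IsLocalization M S] {L : Type w} [CommRing L] [Algebra S L] [Algebra R L] [IsScalarTower R S L]
    (δ : Derivation ℤ R L) : ∃ δ' : Derivation ℤ S L, ∀ r, δ' (algebraMap R S r) = δ r := by
  let g₀ : R →+* TrivSqZeroExt L L :=
    { toFun := fun r ↦ TrivSqZeroExt.inl (algebraMap R L r) + TrivSqZeroExt.inr (δ r)
      map_one' := by ext <;> simp
      map_mul' := fun r s ↦ by ext <;> simp [Algebra.smul_def, mul_comm]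
      map_zero' := by ext <;> simp
      map_add' := fun r s ↦ by ext <;> simp }
  have hu : ∀ y : M, IsUnit (g₀ y) := fun y ↦ by
    rw [TrivSqZeroExt.isUnit_iff_isUnit_fst]
    simpa [g₀, IsScalarTower.algebraMap_apply R S L] using (IsLocalization.map_units S y).map (algebraMap S L)
  let g := IsLocalization.lift (S := S) hu
  have hfst : ∀ z, (g z).fst = algebraMap S L z := fun z ↦ by
    have h : (TrivSqZeroExt.fstHom L L L).toRingHom.comp g = algebraMap S L :=
      IsLocalization.ringHom_ext M (RingHom.ext fun r ↦ by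
        simp [g, IsLocalization.lift_eq, g₀, ← IsScalarTower.algebraMap_apply])
    exact RingHom.congr_fun h z
  refine ⟨Derivation.mk' (AddMonoidHom.mk' (fun z ↦ (g z).snd) fun x y ↦ by
    rw [map_add, TrivSqZeroExt.snd_add]).toIntLinearMap fun x y ↦ ?_, fun r ↦ ?_⟩
  · show (g (x * y)).snd = x • (g y).snd + y • (g x).snd
    rw [map_mul, TrivSqZeroExt.snd_mul, hfst, hfst, op_smul_eq_smul, smul_eq_mul, smul_eq_mul, Algebra.smul_def,
      Algebra.smul_def]
  · show (g (algebraMap R S r)).snd = δ r
    rw [IsLocalization.lift_eq]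
    show (TrivSqZeroExt.inl (algebraMap R L r) + TrivSqZeroExt.inr (δ r)).snd = _
    rw [TrivSqZeroExt.snd_add, TrivSqZeroExt.snd_inl, TrivSqZeroExt.snd_inr, zero_add]

/-- Derivations of a field satisfy the quotient rule. -/
theorem derivation_div {S : Type u} [Field S] {L : Type v} [CommRing L] [Algebra S L] (δ : Derivation ℤ S L)
    (a b : S) (hb : b ≠ 0) : δ (a / b) = b⁻¹ • δ a - (a / b ^ 2) • δ b := by
  have h := Derivation.leibniz δ (a / b) b
  rw [div_mul_cancel₀ a hb] at h
  rw [h, smul_add, smul_smul, smul_smul, inv_mul_cancel₀ hb, one_smul,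
    show b⁻¹ * (a / b) = a / b ^ 2 by rw [pow_two]; field_simp, add_sub_cancel_left]

/-- An additive map satisfying the Leibniz rule as a derivation. -/
def mkDer {A : Type u} [CommRing A] (f : A →+ A) (h : ∀ a b, f (a * b) = a * f b + b * f a) : Derivation ℤ A A :=
  Derivation.mk' f.toIntLinearMap h

theorem mkDer_apply {A : Type u} [CommRing A] (f : A →+ A) (h : ∀ a b, f (a * b) = a * f b + b * f a) (a : A) :
    mkDer f h a = f a := rfl

/-- An additive map satisfying the Leibniz rule, with values in an algebra, as a derivation. -/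
def mkDerTo {R : Type u} [CommRing R] {L : Type v} [CommRing L] [Algebra R L] (f : R →+ L)
    (h : ∀ a b, f (a * b) = a • f b + b • f a) : Derivation ℤ R L :=
  Derivation.mk' f.toIntLinearMap h

theorem mkDerTo_apply {R : Type u} [CommRing R] {L : Type v} [CommRing L] [Algebra R L] (f : R →+ L)
    (h : ∀ a b, f (a * b) = a • f b + b • f a) (a : R) : mkDerTo f h a = f a := rfl

section Coeff

variable {K : Type u} [CommRing K] {σ : Type v}

/-- The coefficientwise action of an additive map. -/
noncomputable def coeffMap (d : Derivation ℤ K K) : MvPowerSeries σ K →+ MvPowerSeries σ K where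
  toFun g := fun I => d (MvPowerSeries.coeff I g)
  map_zero' := MvPowerSeries.ext fun _ => map_zero d
  map_add' a b := MvPowerSeries.ext fun _ => (congrArg d (map_add _ a b)).trans (map_add d _ _)

theorem coeff_coeffMap (d : Derivation ℤ K K) (g : MvPowerSeries σ K) (I : σ →₀ ℕ) :
    MvPowerSeries.coeff I (coeffMap d g) = d (MvPowerSeries.coeff I g) := rfl

theorem coeffMap_mul (d : Derivation ℤ K K) (a b : MvPowerSeries σ K) :
    coeffMap d (a * b) = a * coeffMap d b + b * coeffMap d a := by
  classical
  refine MvPowerSeries.ext fun I => ?_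
  rw [map_add, coeff_coeffMap, MvPowerSeries.coeff_mul, mul_comm b, MvPowerSeries.coeff_mul, MvPowerSeries.coeff_mul,
    map_sum, ← Finset.sum_add_distrib]
  refine Finset.sum_congr rfl fun x _ => ?_
  rw [coeff_coeffMap, coeff_coeffMap, Derivation.leibniz, smul_eq_mul, smul_eq_mul]
  ring

/-- A derivation of the coefficients, applied coefficientwise. -/
noncomputable def coeffDer (d : Derivation ℤ K K) :
    @Derivation ℤ (MvPowerSeries σ K) (MvPowerSeries σ K) _ CommRing.toCommSemiring _
      (Ring.toIntAlgebra _) _ _ :=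
  mkDer (coeffMap d) (coeffMap_mul d)

theorem coeff_coeffDer (d : Derivation ℤ K K) (g : MvPowerSeries σ K) (I : σ →₀ ℕ) :
    MvPowerSeries.coeff I (coeffDer d g) = d (MvPowerSeries.coeff I g) := rfl

theorem coeffDer_C (d : Derivation ℤ K K) (c : K) :
    coeffDer d (MvPowerSeries.C c : MvPowerSeries σ K) = MvPowerSeries.C (d c) := by
  classical
  refine MvPowerSeries.ext fun I => ?_
  rw [coeff_coeffDer, MvPowerSeries.coeff_C, MvPowerSeries.coeff_C, apply_ite d, map_zero]

theorem coeffDer_X (d : Derivation ℤ K K) (i : σ) : coeffDer d (MvPowerSeries.X i) = 0 := by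
  classical
  refine MvPowerSeries.ext fun I => ?_
  rw [coeff_coeffDer, MvPowerSeries.coeff_X, apply_ite d, d.map_one_eq_zero, map_zero, ite_self, map_zero]

end Coeff

/-- A family with no relation has an invertible minor. -/
theorem exists_minor {L : Type u} [Field L] {ι : Type v} {n : ℕ} (W : ι → Fin n → L)
    (h : ∀ c : Fin n → L, (∀ i, ∑ l, c l * W i l = 0) → c = 0) :
    ∃ σ : Fin n → ι, Matrix.det (Matrix.of fun i l => W (σ i) l) ≠ 0 := by
  classical
  have hspan : Submodule.span L (Set.range W) = ⊤ := by
    by_contra hne'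
    obtain ⟨φ, hφ0, hφ⟩ := Submodule.exists_dual_map_eq_bot_of_lt_top (lt_top_iff_ne_top.2 hne') inferInstance
    refine hφ0 (LinearMap.pi_ext' fun j => LinearMap.ext_ring ?_)
    have hzero := h (fun j => φ (Pi.single j 1)) fun i => by
      have h1 : φ (W i) = 0 := by
        rw [← Submodule.mem_bot (R := L), ← hφ]
        exact ⟨W i, Submodule.subset_span ⟨i, rfl⟩, rfl⟩
      rw [pi_eq_sum_univ' (W i), map_sum] at h1
      simpa [mul_comm] using h1
    simpa using congrFun hzero j
  obtain ⟨κ, σ, -, hσspan, hσli⟩ := exists_linearIndependent' L W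
  haveI : Finite κ := hσli.finite
  haveI : Fintype κ := Fintype.ofFinite κ
  have hcard : Fintype.card κ = n := by
    let b := Module.Basis.mk hσli (by rw [hσspan, hspan])
    rw [← Module.finrank_eq_card_basis b, Module.finrank_fin_fun]
  let e : Fin n ≃ κ := ((Fintype.equivFin κ).trans (finCongr hcard)).symm
  refine ⟨σ ∘ e, ?_⟩
  have hunit : IsUnit (Matrix.of fun i l => W (σ (e i)) l) := by
    rw [← Matrix.linearIndependent_rows_iff_isUnit]
    exact hσli.comp e e.injective
  exact ((Matrix.isUnit_iff_isUnit_det _).1 hunit).ne_zero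

end NagataLib
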