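import Groth.Agent.CplExcLib.Derivations

/-!
# Subfields of finite index of the coefficients preserving `p`-independence
-/

set_option autoImplicit false
set_option linter.style.haveILetI false
set_option maxHeartbeats 800000

universe u v

open MvPowerSeries Groth.Agent CplExcLib

namespace NagataLib

/-- Every series is a combination over `F[[Xᵖ]]` of the monomials with coefficients in a spanning family. -/
theorem exists_span_psSubring {k : Type u} [Field k] {n : ℕ} (p : ℕ) (hp : 0 < p) (F : Subfield k) {κ : Type v}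
    [Fintype κ] (b : κ → k) (hb : ∀ x : k, ∃ c : κ → F, ∑ j, (c j : k) * b j = x) :
    ∃ G : κ × (Fin n → Fin p) → MvPowerSeries (Fin n) k, ∀ g, ∃ c : κ × (Fin n → Fin p) → MvPowerSeries (Fin n) k,
      (∀ x, c x ∈ psSubring p F) ∧ ∑ x, c x * G x = g := by
  classical
  choose co hco using hb
  let a' : (Fin n → Fin p) → (Fin n →₀ ℕ) := fun a ↦ Finsupp.equivFunOnFinite.symm fun i ↦ (a i : ℕ)
  refine ⟨fun x ↦ monomial (a' x.2) (b x.1), fun g ↦ ?_⟩
  let c : κ × (Fin n → Fin p) → MvPowerSeries (Fin n) k := fun x ↦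
    (fun I ↦ if ∀ i, p ∣ I i then (co (coeff (I + a' x.2) g) x.1 : k) else 0 : MvPowerSeries (Fin n) k)
  have hc : ∀ x I, coeff I (c x) = if ∀ i, p ∣ I i then (co (coeff (I + a' x.2) g) x.1 : k) else 0 :=
    fun _ _ ↦ rfl
  refine ⟨c, fun x I ↦ ?_, MvPowerSeries.ext fun J ↦ ?_⟩
  · rw [hc]
    split_ifs with hI
    · exact ⟨(co _ _).2, fun _ ↦ hI⟩
    · exact ⟨F.zero_mem, fun h0 ↦ absurd rfl h0⟩
  let a₀ : Fin n → Fin p := fun i ↦ ⟨J i % p, Nat.mod_lt _ hp⟩
  have ha₀ : a' a₀ ≤ J := fun i ↦ Nat.mod_le _ _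
  have hdvd : ∀ i, p ∣ (J - a' a₀) i := fun i ↦ by
    rw [Finsupp.tsub_apply]
    exact Nat.dvd_sub_mod (J i)
  rw [map_sum, Fintype.sum_prod_type]
  have hinner : ∀ j, ∑ a, coeff J (c (j, a) * monomial (a' a) (b j)) = (co (coeff J g) j : k) * b j := fun j ↦ by
    rw [Finset.sum_eq_single a₀]
    · rw [mul_comm, coeff_monomial_mul, if_pos ha₀, hc, if_pos hdvd, tsub_add_cancel_of_le ha₀, mul_comm]
    · intro a _ hne
      rw [mul_comm, coeff_monomial_mul]
      split_ifs with hle
      · rw [hc, if_neg, mul_zero]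
        intro hd
        refine hne (funext fun i ↦ Fin.ext ?_)
        obtain ⟨t, ht⟩ := hd i
        have hi : (a i : ℕ) ≤ J i := hle i
        rw [Finsupp.tsub_apply] at ht
        show (a i : ℕ) = J i % p
        have hJ : J i = a i + p * t := by
          have : a' a i = a i := rfl
          omega
        rw [hJ, Nat.add_mul_mod_self_left, Nat.mod_eq_of_lt (a i).2]
      · rfl
    · simp
  exact (Finset.sum_congr rfl fun j _ ↦ hinner j).trans (hco _)

variable (p : ℕ) [Fact p.Prime] {K : Type u} [Field K] [CharP K p] {s : ℕ}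

/-- A series lying in all the `F_S[[Xᵖ]]` is a `p`-th power. -/
theorem exists_pow_of_mem (F : Finset K → Subfield K) (hinter : ∀ x : K, (∀ S, x ∈ F S) → ∃ y, y ^ p = x)
    (g : MvPowerSeries (Fin s) K) (hg : ∀ S, g ∈ psSubring p (F S)) : ∃ y, y ^ p = g := by
  have hroot : ∀ I : Fin s →₀ ℕ, ∃ y : K, y ^ p = coeff (p • I) g := fun I ↦ hinter _ fun S ↦ (hg S (p • I)).1
  choose y hy using hroot
  haveI : ExpChar K p := ExpChar.prime (Fact.out : p.Prime)
  let r : MvPowerSeries (Fin s) K := fun I ↦ y I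
  refine ⟨r, MvPowerSeries.ext fun J ↦ ?_⟩
  rw [← map_frobenius_expand p (Fact.out : p.Prime).ne_zero, coeff_map]
  by_cases hJ : ∀ i, p ∣ J i
  · obtain ⟨I, rfl⟩ : ∃ I : Fin s →₀ ℕ, p • I = J :=
      ⟨J.mapRange (· / p) (Nat.zero_div p), Finsupp.ext fun i ↦ by
        rw [Finsupp.smul_apply, Finsupp.mapRange_apply, smul_eq_mul, Nat.mul_div_cancel' (hJ i)]⟩
    rw [coeff_expand_smul, frobenius_def]
    exact hy I
  · obtain ⟨i, hi⟩ := not_forall.mp hJ
    rw [coeff_expand_of_not_dvd p _ _ hi, map_zero]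
    by_contra hne
    exact hi ((hg ∅ J).2 (Ne.symm hne) i)

omit [CharP K p] in
/-- An element of all the generated subfields is a `p`-th power. -/
theorem exists_pow_of_mem_closure {R K' : Type u} [CommRing R] [IsDomain R] [Field K'] [Algebra R K']
    [IsFractionRing R K'] {α : Type v} (RS : α → Subring R) (hpow : ∀ a r, r ^ p ∈ RS a)
    (hdiv : ∀ a v z, v ∈ RS a → v ≠ 0 → v * z ∈ RS a → z ∈ RS a)
    (hinter : ∀ r, (∀ a, r ∈ RS a) → ∃ y, y ^ p = r)
    (x : K') (hx : ∀ S, x ∈ Subfield.closure (algebraMap R K' '' (RS S : Set R))) : ∃ y, y ^ p = x := by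
  obtain ⟨a, b, hb, rfl⟩ := IsFractionRing.div_surjective R x
  have hb0 : b ≠ 0 := nonZeroDivisors.ne_zero hb
  have hb' : algebraMap R K' b ≠ 0 := (map_ne_zero_iff _ (IsFractionRing.injective R K')).mpr hb0
  have hp1 : p = (p - 1) + 1 := by have := (Fact.out : p.Prime).pos; omega
  have hg : ∀ S, a * b ^ (p - 1) ∈ RS S := fun S ↦ by
    obtain ⟨y, hy, z, hz, huv⟩ := Subfield.mem_closure_iff.mp (hx S)
    rw [show Subring.closure (algebraMap R K' '' (RS S : Set R)) = (RS S).map (algebraMap R K') by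
      rw [← RingHom.map_closure, Subring.closure_eq]] at hy hz
    obtain ⟨u, hu, rfl⟩ := hy
    obtain ⟨v, hv, rfl⟩ := hz
    by_cases hv0 : algebraMap R K' v = 0
    · rw [hv0, div_zero, eq_comm, div_eq_zero_iff, or_iff_left hb',
        map_eq_zero_iff _ (IsFractionRing.injective R K')] at huv
      rw [huv, zero_mul]
      exact zero_mem _
    · refine hdiv S v _ hv (fun h ↦ hv0 (by rw [h, map_zero])) ?_
      rw [div_eq_div_iff hv0 hb', ← map_mul, ← map_mul] at huv
      have h := IsFractionRing.injective R K' huv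
      have hE : v * (a * b ^ (p - 1)) = u * b ^ p := by
        calc v * (a * b ^ (p - 1)) = (a * v) * b ^ (p - 1) := by ring
          _ = (u * b) * b ^ (p - 1) := by rw [h]
          _ = u * b ^ ((p - 1) + 1) := by ring
          _ = u * b ^ p := by rw [← hp1]
      rw [hE]
      exact mul_mem hu (hpow S b)
  obtain ⟨r, hr⟩ := hinter _ hg
  refine ⟨algebraMap R K' r / algebraMap R K' b, ?_⟩
  rw [div_pow, ← map_pow, hr, map_mul, map_pow, div_eq_div_iff (pow_ne_zero _ hb') hb', mul_assoc, ← pow_succ, ← hp1]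

variable {L : Type u} [Field L] [Algebra (MvPowerSeries (Fin s) K) L]

omit [CharP K p] in
/-- Monomials in a `p`-independent family times powers of a basis stay independent. -/
theorem exists_subfield (K' : Type u) [Field K'] [Algebra (MvPowerSeries (Fin s) K) K']
    [IsFractionRing (MvPowerSeries (Fin s) K) K'] [Algebra K' L] [IsScalarTower (MvPowerSeries (Fin s) K) K' L]
    [FiniteDimensional K' L] [CharP K p] (T₀ : Set L) (hT₀ : T₀.Finite)
    (hind : PBasisLib.SetIndep (A := (⊥ : Subring L)) p T₀) :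
    ∃ F : Subfield K, (∀ x, x ^ p ∈ F) ∧ Module.Finite F K ∧
      PBasisLib.SetIndep (A := psSubring (n := s) p F) p T₀ ∧
      ∀ (κ : Type u) [Fintype κ] (b : κ → K), (∀ x : K, ∃ c : κ → F, ∑ j, (c j : K) * b j = x) →
        ∀ T : Finset L, PBasisLib.SetIndep (A := psSubring (n := s) p F) p (T : Set L) →
          p ^ T.card ≤ Fintype.card κ * p ^ s := by
  classical
  let R := MvPowerSeries (Fin s) K
  haveI : IsDomain R := NoZeroDivisors.to_isDomain _
  haveI : CharP R p := charP_of_injective_ringHom (MvPowerSeries.C (σ := Fin s) (R := K)).injective p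
  haveI : CharP K' p := charP_of_injective_ringHom (IsFractionRing.injective R K') p
  haveI : CharP L p := charP_of_injective_ringHom (algebraMap K' L).injective p
  haveI : ExpChar L p := ExpChar.prime (Fact.out : p.Prime)
  haveI : ExpChar K' p := ExpChar.prime (Fact.out : p.Prime)
  obtain ⟨F, hmono, hpow, hfin, hinter⟩ := exists_subfield_family p K
  let RS := fun S ↦ psSubring (n := s) p (F S)
  let KS := fun S ↦ Subfield.closure (algebraMap R K' '' (RS S : Set R))
  have hKSpow : ∀ S (x : K'), x ^ p ∈ KS S := fun S x ↦ by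
    obtain ⟨a, b, -, rfl⟩ := IsFractionRing.div_surjective R x
    rw [div_pow, ← map_pow, ← map_pow]
    exact (KS S).div_mem (Subfield.subset_closure ⟨_, pow_mem_psSubring p (F S) (hpow S) a, rfl⟩)
      (Subfield.subset_closure ⟨_, pow_mem_psSubring p (F S) (hpow S) b, rfl⟩)
  let d := Module.finrank K' L
  let bL := Module.finBasis K' L
  haveI : Finite T₀ := hT₀
  let E := {e : T₀ →₀ ℕ // ∀ i, e i < p}
  haveI : Finite E := Finite.of_injective (fun e : E ↦ fun i ↦ (⟨e.1 i, e.2 i⟩ : Fin p)) fun e e' h ↦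
    Subtype.ext (Finsupp.ext fun i ↦ congrArg Fin.val (congrFun h i))
  letI : Fintype E := Fintype.ofFinite E
  let mon : E → L := fun e ↦ EGA41.pMonomial (Subtype.val : T₀ → L) e.1
  let v : E × Fin d → L := fun x ↦ bL x.2 ^ p * mon x.1
  -- over the `p`-th powers the family is independent
  obtain ⟨S, hS⟩ := exists_indep KS (fun S S' ↦ ⟨S ∪ S', by
      constructor <;> refine Subfield.closure_mono (Set.image_mono fun g hg I ↦ ⟨hmono _ _ ?_ (hg I).1, (hg I).2⟩)
      exacts [Finset.subset_union_left, Finset.subset_union_right]⟩)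
    (Set.range fun y : K' ↦ y ^ p)
    (exists_pow_of_mem_closure p RS (fun S r ↦ pow_mem_psSubring p (F S) (hpow S) r)
      (fun S v z hv hv0 h ↦ mem_of_mul_mem p (F S) hv hv0 h) (exists_pow_of_mem p F hinter))
    ⟨0, zero_pow (Fact.out : p.Prime).ne_zero⟩ ⟨1, one_pow p⟩
    (by
      rintro _ ⟨y, rfl⟩
      exact ⟨-y, by
        show (-y) ^ p = -(y ^ p)
        rw [neg_pow, neg_one_pow_expChar K' p, neg_one_mul]⟩)
    v Finset.univ (fun c hc hsum ↦ by
      choose e he using fun x ↦ hc x (Finset.mem_univ x)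
      simp only at he
      let w : E → EGA41.pPowerSubalgebra p (⊥ : Subring L) L := fun a ↦
        ⟨(∑ i, e (a, i) • bL i) ^ p, PBasisLib.pow_mem_pPow p _⟩
      have hw : ∑ a, w a • mon a = 0 := by
        rw [← hsum, Fintype.sum_prod_type]
        refine Finset.sum_congr rfl fun a _ ↦ ?_
        show (∑ i, e (a, i) • bL i) ^ p * mon a = _
        rw [sum_pow_char p, Finset.sum_mul]
        refine Finset.sum_congr rfl fun i _ ↦ ?_
        rw [← he, Algebra.smul_def, Algebra.smul_def, mul_pow, map_pow]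
        ring
      intro x _
      have h := Fintype.linearIndependent_iff.mp hind w hw x.1
      have h' : (∑ i, e (x.1, i) • bL i) = 0 :=
        (pow_eq_zero_iff (Fact.out : p.Prime).ne_zero).mp (congrArg Subtype.val h)
      rw [← he, Fintype.linearIndependent_iff.mp bL.linearIndependent _ h' x.2,
        zero_pow (Fact.out : p.Prime).ne_zero])
  refine ⟨F S, hpow S, hfin S, ?_, fun κ _ b hb T hT ↦ ?_⟩
  -- elements of `RS[L^p]` are combinations of the powers of the basis
  · let W : Set L := {x | ∃ c : Fin d → K', (∀ i, c i ∈ KS S) ∧ ∑ i, c i • bL i ^ p = x}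
    have hWpow : ∀ x : L, x ^ p ∈ W := fun x ↦ ⟨fun i ↦ bL.repr x i ^ p, fun i ↦ hKSpow S _, by
      conv_rhs => rw [← bL.sum_repr x, sum_pow_char p]
      exact Finset.sum_congr rfl fun i _ ↦ by rw [Algebra.smul_def, Algebra.smul_def, mul_pow, map_pow]⟩
    have hWadd : ∀ x ∈ W, ∀ y ∈ W, x + y ∈ W := by
      rintro _ ⟨c, hc, rfl⟩ _ ⟨d', hd, rfl⟩
      exact ⟨fun i ↦ c i + d' i, fun i ↦ (KS S).add_mem (hc i) (hd i),
        by simp only [add_smul, Finset.sum_add_distrib]⟩
    have hWsmul : ∀ a ∈ KS S, ∀ x ∈ W, algebraMap K' L a * x ∈ W := by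
      rintro a ha _ ⟨c, hc, rfl⟩
      refine ⟨fun i ↦ a * c i, fun i ↦ (KS S).mul_mem ha (hc i), ?_⟩
      rw [Finset.mul_sum]
      exact Finset.sum_congr rfl fun i _ ↦ by rw [← Algebra.smul_def, smul_smul]
    have hW0 : (0 : L) ∈ W := ⟨0, fun _ ↦ (KS S).zero_mem, by simp⟩
    have hWmul : ∀ x ∈ W, ∀ y ∈ W, x * y ∈ W := by
      rintro _ ⟨c, hc, rfl⟩ _ ⟨d', hd, rfl⟩
      rw [Finset.sum_mul]
      refine Finset.sum_induction _ (· ∈ W) (fun a b ha hb ↦ hWadd a ha b hb) hW0 fun i _ ↦ ?_
      rw [Finset.mul_sum]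
      refine Finset.sum_induction _ (· ∈ W) (fun a b ha hb ↦ hWadd a ha b hb) hW0 fun j _ ↦ ?_
      rw [Algebra.smul_def, Algebra.smul_def, mul_mul_mul_comm, ← map_mul, ← mul_pow]
      exact hWsmul _ ((KS S).mul_mem (hc i) (hd j)) _ (hWpow _)
    have hP : ∀ x ∈ EGA41.pPowerSubalgebra p (RS S) L, x ∈ W := fun x hx ↦ by
      induction hx using Algebra.adjoin_induction with
      | mem _ h => obtain ⟨b, rfl⟩ := h; exact hWpow b
      | algebraMap a =>
        have h := hWsmul (algebraMap R K' a) (Subfield.subset_closure ⟨a, a.2, rfl⟩) _ (hWpow 1)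
        rwa [one_pow, mul_one, ← IsScalarTower.algebraMap_apply] at h
      | add _ _ _ _ ha hb => exact hWadd _ ha _ hb
      | mul _ _ _ _ ha hb => exact hWmul _ ha _ hb
    refine Fintype.linearIndependent_iff.mpr fun g hg a ↦ Subtype.ext ?_
    choose c hc hcs using fun a : E ↦ hP _ (g a).2
    have h := hS (fun x ↦ c x.1 x.2) (fun x _ ↦ hc _ _) (by
      rw [← hg, Fintype.sum_prod_type]
      refine Finset.sum_congr rfl fun a _ ↦ ?_
      show _ = (g a : L) * mon a
      rw [← hcs a, Finset.sum_mul]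
      exact Finset.sum_congr rfl fun i _ ↦ (smul_mul_assoc _ _ _).symm)
    rw [← hcs a]
    show _ = (0 : L)
    exact Finset.sum_eq_zero fun i _ ↦ by rw [h (a, i) (Finset.mem_univ _), zero_smul]
  -- counting
  · let P := EGA41.pPowerSubalgebra p (RS S) L
    let ET := {e : (T : Set L) →₀ ℕ // ∀ i, e i < p}
    let monT : ET → L := fun e ↦ EGA41.pMonomial (Subtype.val : ↥(T : Set L) → L) e.1
    let eT : ET ≃ (↥(T : Set L) → Fin p) :=
      { toFun := fun e i ↦ ⟨e.1 i, e.2 i⟩
        invFun := fun f ↦ ⟨Finsupp.equivFunOnFinite.symm fun i ↦ (f i : ℕ), fun i ↦ (f i).2⟩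
        left_inv := fun e ↦ Subtype.ext (Finsupp.ext fun i ↦ rfl)
        right_inv := fun f ↦ rfl }
    letI : Fintype ET := Fintype.ofEquiv _ eT.symm
    have hcard : Fintype.card ET = p ^ T.card := by
      rw [Fintype.card_congr eT, Fintype.card_fun, Fintype.card_fin, ← Fintype.card_coe]
      rfl
    have hKP : ∀ a ∈ KS S, algebraMap K' L a ∈ P := by
      intro a ha
      induction ha using Subfield.closure_induction with
      | mem x hx =>
        obtain ⟨r, hr, rfl⟩ := hx
        rw [← IsScalarTower.algebraMap_apply]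
        exact P.algebraMap_mem ⟨r, hr⟩
      | one => rw [map_one]; exact one_mem _
      | add _ _ _ _ ha hb => rw [map_add]; exact add_mem ha hb
      | neg _ _ ha => rw [map_neg]; exact neg_mem ha
      | inv x _ ha =>
        rw [map_inv₀]
        exact (Algebra.mem_bot.mp (PBasisLib.inv_mem_of_pPow_le p
          (C := (⊥ : Subalgebra P L)) (Algebra.mem_bot.mpr ⟨⟨_, ha⟩, rfl⟩))).choose_spec ▸ SetLike.coe_mem _
      | mul _ _ _ _ ha hb => rw [map_mul]; exact mul_mem ha hb
    let u : ET × Fin d → L := fun x ↦ bL x.2 ^ p * monT x.1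
    have hu : LinearIndependent (KS S) u := by
      refine Fintype.linearIndependent_iff.mpr fun g hg x ↦ Subtype.ext ?_
      let w : ET → P := fun a ↦ ⟨∑ i, (g (a, i) : K') • bL i ^ p, Subalgebra.sum_mem _ fun i _ ↦ by
        rw [Algebra.smul_def]
        exact mul_mem (hKP _ (g (a, i)).2) (PBasisLib.pow_mem_pPow p _)⟩
      have hw : ∑ a, w a • monT a = 0 := by
        rw [← hg, Fintype.sum_prod_type]
        refine Finset.sum_congr rfl fun a _ ↦ ?_
        show (∑ i, (g (a, i) : K') • bL i ^ p) * monT a = _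
        rw [Finset.sum_mul]
        exact Finset.sum_congr rfl fun i _ ↦ smul_mul_assoc _ _ _
      have h0 : ∑ i, (g (x.1, i) : K') • bL i ^ p = 0 :=
        congrArg Subtype.val (Fintype.linearIndependent_iff.mp hT w hw x.1)
      let z : E := ⟨0, fun _ ↦ (Fact.out : p.Prime).pos⟩
      have h := hS (fun y ↦ if y.1 = z then (g (x.1, y.2) : K') else 0) (fun y _ ↦ by
        split_ifs
        exacts [(g _).2, (KS S).zero_mem]) (by
          rw [Fintype.sum_prod_type, Finset.sum_eq_single z (fun a _ ha ↦ by simp [ha]) (by simp)]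
          rw [← h0]
          refine Finset.sum_congr rfl fun i _ ↦ ?_
          simp [v, mon, z, EGA41.pMonomial]) (z, x.2) (Finset.mem_univ _)
      simpa using h
    obtain ⟨G, hG⟩ := exists_span_psSubring (n := s) p (Fact.out : p.Prime).pos (F S) b hb
    let γ := (κ × (Fin s → Fin p)) × Fin d
    have hspan : Submodule.span (KS S) (Set.range fun y : γ ↦ algebraMap R L (G y.1) * bL y.2) = ⊤ := by
      refine eq_top_iff.mpr fun z _ ↦ ?_
      rw [← bL.sum_repr z]
      refine Submodule.sum_mem _ fun i _ ↦ ?_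
      obtain ⟨a, b', hb', hab⟩ := IsFractionRing.div_surjective R (bL.repr z i)
      have hb0 : algebraMap R K' b' ≠ 0 :=
        (map_ne_zero_iff _ (IsFractionRing.injective R K')).mpr (nonZeroDivisors.ne_zero hb')
      obtain ⟨c, hc, hcs⟩ := hG (a * b' ^ (p - 1))
      have hrew : bL.repr z i = ∑ y, (algebraMap R K' (c y) / algebraMap R K' (b' ^ p)) * algebraMap R K' (G y) := by
        simp only [div_mul_eq_mul_div, ← map_mul, ← Finset.sum_div]
        rw [← map_sum, hcs, ← hab, map_pow, map_mul, map_pow, div_eq_div_iff hb0 (pow_ne_zero _ hb0), mul_assoc,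
          ← pow_succ, Nat.sub_add_cancel (Fact.out : p.Prime).one_le]
      rw [hrew, Finset.sum_smul]
      refine Submodule.sum_mem _ fun y _ ↦ ?_
      rw [mul_smul, show algebraMap R K' (G y) • bL i = algebraMap R L (G y) * bL i by
        rw [Algebra.smul_def, ← IsScalarTower.algebraMap_apply]]
      exact Submodule.smul_mem _ (⟨_, (KS S).div_mem (Subfield.subset_closure ⟨_, hc y, rfl⟩)
        (Subfield.subset_closure ⟨_, pow_mem_psSubring p (F S) (hpow S) b', rfl⟩)⟩ : KS S)
        (Submodule.subset_span ⟨(y, i), rfl⟩)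
    have h := linearIndependent_le_span u hu (Set.range fun y : γ ↦ algebraMap R L (G y.1) * bL y.2) hspan
    rw [Cardinal.mk_fintype, Nat.cast_le] at h
    have h2 := h.trans (Fintype.card_range_le _)
    simp only [Fintype.card_prod, Fintype.card_fin, Fintype.card_fun, hcard, γ] at h2
    exact Nat.le_of_mul_le_mul_right h2 Module.finrank_pos

end NagataLib
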