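import Groth.Agent.CohenLib.PSHom
import Mathlib.RingTheory.Derivation.Basic
import Mathlib.RingTheory.Filtration
import Mathlib.RingTheory.MvPowerSeries.Trunc

/-!
# Derivations with bounded denominators and series
-/

set_option autoImplicit false
set_option linter.style.haveILetI false

universe u v

open IsLocalRing

namespace NagataLib

/-- Series congruent to their truncations. -/
theorem sub_truncTotal_mem {Λ : Type u} [CommRing Λ] {n : ℕ} (M : ℕ) (f : MvPowerSeries (Fin n) Λ) :
    f - algebraMap (MvPolynomial (Fin n) Λ) _ (MvPowerSeries.truncTotal M f) ∈ CohenLib.varsIdeal Λ n ^ M := by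
  let e := MvPowerSeries.toAdicCompletionAlgEquiv (Fin n) Λ
  let Iv := MvPolynomial.idealOfVars (Fin n) Λ
  have h1 : e (f - algebraMap _ _ (MvPowerSeries.truncTotal M f)) ∈ (Iv ^ M • ⊤ : Submodule (MvPolynomial (Fin n) Λ)
      (AdicCompletion Iv (MvPolynomial (Fin n) Λ))) := by
    rw [AdicCompletion.pow_smul_top_eq_ker_eval (CohenLib.fg_idealOfVars Λ), LinearMap.mem_ker, map_sub,
      AlgEquiv.commutes, map_sub, sub_eq_zero, AdicCompletion.eval_apply, AdicCompletion.eval_apply,
      MvPowerSeries.toAdicCompletionAlgEquiv_apply, MvPowerSeries.toAdicCompletion_apply_eq_mk_truncTotal]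
    rfl
  rw [Ideal.smul_top_eq_map, Submodule.restrictScalars_mem, Ideal.map_pow,
    ← CohenLib.map_idealOfVars_equiv, ← Ideal.map_pow] at h1
  obtain ⟨g, hg, hgf⟩ := (Ideal.mem_map_iff_of_surjective _ e.toRingEquiv.surjective).1 h1
  rwa [← e.injective hgf]

variable {R : Type u} {L : Type v} [CommRing R] [CommRing L] [Algebra R L]

/-- The kernel of a derivation, as a subring. -/
def derKer (δ : Derivation ℤ R L) : Subring R where
  carrier := {x | δ x = 0}
  zero_mem' := map_zero δ
  one_mem' := δ.map_one_eq_zero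
  add_mem' {a b} (ha : δ a = 0) (hb : δ b = 0) := by
    show δ (a + b) = 0
    rw [map_add, ha, hb, add_zero]
  neg_mem' {a} (ha : δ a = 0) := by
    show δ (-a) = 0
    rw [map_neg, ha, neg_zero]
  mul_mem' {a b} (ha : δ a = 0) (hb : δ b = 0) := by
    show δ (a * b) = 0
    rw [Derivation.leibniz, ha, hb, smul_zero, smul_zero, add_zero]

theorem mem_derKer (δ : Derivation ℤ R L) (x : R) : x ∈ derKer δ ↔ δ x = 0 := Iff.rfl

/-- A derivation with values in a finite module kills series built from elements it kills. -/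
theorem derivation_series_eq_zero [IsLocalRing R] [IsNoetherianRing R] {Λ : Type u} [CommRing Λ] {n : ℕ}
    (φ : MvPowerSeries (Fin n) Λ →+* R) (hX : ∀ i, φ (MvPowerSeries.X i) ∈ maximalIdeal R)
    (δ : Derivation ℤ R L) (N : Submodule R L) (hN : N.FG) (hδN : ∀ x, δ x ∈ N) (e : ℕ)
    (hXe : ∀ i, δ (φ (MvPowerSeries.X i) ^ e) = 0) (g : MvPowerSeries (Fin n) Λ)
    (hC : ∀ I, δ (φ (MvPowerSeries.C (MvPowerSeries.coeff I g))) = 0)
    (hdvd : ∀ I, MvPowerSeries.coeff I g ≠ 0 → ∀ i, e ∣ I i) :
    δ (φ g) = 0 := by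
  haveI : Module.Finite R N := Module.Finite.iff_fg.2 hN
  -- the derivation decreases the adic order by one
  have hpow : ∀ M : ℕ, ∀ x ∈ maximalIdeal R ^ (M + 1), δ x ∈ maximalIdeal R ^ M • N := by
    intro M
    induction M with
    | zero => intro x _; simpa using hδN x
    | succ M ih =>
      intro x hx
      rw [pow_succ] at hx
      refine Submodule.mul_induction_on hx (fun a ha b hb => ?_) fun a b ha hb => by
        rw [map_add]; exact add_mem ha hb
      rw [Derivation.leibniz]
      refine add_mem (Submodule.smul_mem_smul ha (hδN b)) ?_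
      rw [pow_succ', Submodule.mul_smul]
      exact Submodule.smul_mem_smul hb (ih a ha)
  have hmem : ∀ M : ℕ, δ (φ g) ∈ maximalIdeal R ^ M • N := by
    intro M
    let q := MvPowerSeries.truncTotal (M + 1) g
    have ht : φ (g - algebraMap (MvPolynomial (Fin n) Λ) _ q) ∈ maximalIdeal R ^ (M + 1) := by
      have h1 : (CohenLib.varsIdeal Λ n).map φ ≤ maximalIdeal R := by
        rw [CohenLib.varsIdeal, Ideal.map_span, Ideal.span_le]
        rintro _ ⟨_, ⟨i, rfl⟩, rfl⟩
        exact hX i
      have h2 := Ideal.mem_map_of_mem φ (sub_truncTotal_mem (M + 1) g)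
      rw [Ideal.map_pow] at h2
      exact Ideal.pow_right_mono h1 _ h2
    have hq : φ (algebraMap (MvPolynomial (Fin n) Λ) _ q) ∈ derKer δ := by
      rw [q.as_sum, map_sum, map_sum]
      refine Subring.sum_mem _ fun I hI => ?_
      have hI0 : MvPolynomial.coeff I q ≠ 0 := MvPolynomial.mem_support_iff.1 hI
      have hco : MvPolynomial.coeff I q = MvPowerSeries.coeff I g := by
        classical
        rcases lt_or_ge (Finsupp.degree I) (M + 1) with h | h
        · exact MvPowerSeries.coeff_truncTotal _ h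
        · exact absurd (MvPowerSeries.coeff_truncTotal_eq_zero _ h) hI0
      rw [MvPolynomial.monomial_eq, map_mul, map_mul, Finsupp.prod, map_prod, map_prod]
      refine Subring.mul_mem _ ?_ (Subring.prod_mem _ fun i _ => ?_)
      · rw [hco, show algebraMap (MvPolynomial (Fin n) Λ) (MvPowerSeries (Fin n) Λ)
          (MvPolynomial.C (MvPowerSeries.coeff I g)) = MvPowerSeries.C (MvPowerSeries.coeff I g) by
            rw [MvPowerSeries.algebraMap_apply']; simp]
        exact hC I
      · obtain ⟨l, hl⟩ := hdvd I (hco ▸ hI0) i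
        rw [map_pow, map_pow, hl, pow_mul]
        refine Subring.pow_mem _ ?_ l
        rw [show algebraMap (MvPolynomial (Fin n) Λ) (MvPowerSeries (Fin n) Λ) (MvPolynomial.X i) =
          MvPowerSeries.X i by rw [MvPowerSeries.algebraMap_apply']; simp]
        exact hXe i
    have h3 := hpow M _ ht
    rwa [map_sub, map_sub, (mem_derKer δ _).1 hq, sub_zero] at h3
  have hbot : (⨅ M : ℕ, maximalIdeal R ^ M • (⊤ : Submodule R N)) = ⊥ :=
    Ideal.iInf_pow_smul_eq_bot_of_isLocalRing _ (maximalIdeal.isMaximal R).ne_top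
  have hzero : (⟨δ (φ g), hδN _⟩ : N) ∈ ⨅ M : ℕ, maximalIdeal R ^ M • (⊤ : Submodule R N) := by
    rw [Submodule.mem_iInf]
    intro M
    rw [Submodule.mem_smul_top_iff]
    exact hmem M
  rw [hbot, Submodule.mem_bot] at hzero
  exact congrArg Subtype.val hzero

end NagataLib
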