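import Groth.Agent.NagataLib.RankCount
import Groth.Agent.NagataLib.Truncation
import Mathlib.RingTheory.Ideal.Quotient.Operations

/-!
# Derivations of a prime quotient from annihilating vectors
-/

set_option autoImplicit false
set_option linter.style.haveILetI false

universe u

open IsLocalRing

namespace NagataLib

variable {A : Type u} [CommRing A] (p : Ideal A) [p.IsPrime] {L : Type u} [Field L] [Algebra A L]
  [Algebra (A ⧸ p) L] [IsScalarTower A (A ⧸ p) L] {N : ℕ} (D : Fin N → Derivation ℤ A A)

omit [p.IsPrime] in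
theorem algebraMap_eq_zero_of_mem {a : A} (ha : a ∈ p) : algebraMap A L a = 0 := by
  rw [IsScalarTower.algebraMap_apply A (A ⧸ p) L, Ideal.Quotient.algebraMap_eq,
    Ideal.Quotient.eq_zero_iff_mem.2 ha, map_zero]

theorem ker_algebraMap (hinj : Function.Injective (algebraMap (A ⧸ p) L)) :
    RingHom.ker (algebraMap A L) = p := by
  ext a
  rw [RingHom.mem_ker, IsScalarTower.algebraMap_apply A (A ⧸ p) L, map_eq_zero_iff _ hinj,
    Ideal.Quotient.algebraMap_eq, Ideal.Quotient.eq_zero_iff_mem]

/-- An annihilating vector gives a derivation of the quotient, with bounded values. -/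
theorem exists_descend (v : Fin N → L) (hv : v ∈ annihilator (L := L) p D) :
    ∃ δ : Derivation ℤ (A ⧸ p) L, (∀ a, δ (Ideal.Quotient.mk p a) = ∑ i, v i * algebraMap A L (D i a)) ∧
      ∀ x, δ x ∈ Submodule.span (A ⧸ p) (Set.range v) := by
  have hval : ∀ a, ∑ i, v i * algebraMap A L (D i a) ∈ Submodule.span (A ⧸ p) (Set.range v) := fun a => by
    refine Submodule.sum_mem _ fun i _ => ?_
    rw [mul_comm, IsScalarTower.algebraMap_apply A (A ⧸ p) L, ← Algebra.smul_def]
    exact Submodule.smul_mem _ _ (Submodule.subset_span ⟨i, rfl⟩)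
  let f : A →+ L := AddMonoidHom.mk' (fun a => ∑ i, v i * algebraMap A L (D i a)) fun a b => by
    simp only [map_add, mul_add, Finset.sum_add_distrib]
  let g : A ⧸ p →+ L := QuotientAddGroup.lift p.toAddSubgroup f fun a ha => hv a ha
  have hg : ∀ a, g (Ideal.Quotient.mk p a) = ∑ i, v i * algebraMap A L (D i a) := fun a => rfl
  refine ⟨Derivation.mk' g.toIntLinearMap fun x y => ?_, hg, fun x => ?_⟩
  · obtain ⟨a, rfl⟩ := Ideal.Quotient.mk_surjective x
    obtain ⟨b, rfl⟩ := Ideal.Quotient.mk_surjective y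
    show g (Ideal.Quotient.mk p a * Ideal.Quotient.mk p b) =
      Ideal.Quotient.mk p a • g (Ideal.Quotient.mk p b) + Ideal.Quotient.mk p b • g (Ideal.Quotient.mk p a)
    rw [← map_mul, hg, hg, hg, Algebra.smul_def, Algebra.smul_def, ← Ideal.Quotient.algebraMap_eq,
      ← IsScalarTower.algebraMap_apply, ← IsScalarTower.algebraMap_apply, Finset.mul_sum, Finset.mul_sum,
      ← Finset.sum_add_distrib]
    refine Finset.sum_congr rfl fun i _ => ?_
    rw [Derivation.leibniz, smul_eq_mul, smul_eq_mul, map_add, map_mul, map_mul]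
    ring
  · obtain ⟨a, rfl⟩ := Ideal.Quotient.mk_surjective x
    exact hval a

omit [IsScalarTower A (A ⧸ p) L] [Algebra A L] in
/-- Derivation of a polynomial with coefficients killed by the derivation. -/
theorem derivation_eval₂ {S : Type*} [CommRing S] (φ : S →+* A ⧸ p) (δ : Derivation ℤ (A ⧸ p) L)
    (hφ : ∀ c, δ (φ c) = 0) (P : Polynomial S) (y : A ⧸ p) :
    δ (P.eval₂ φ y) = (P.derivative.eval₂ φ y) • δ y := by
  induction P using Polynomial.induction_on' with
  | add P Q hP hQ => rw [Polynomial.eval₂_add, map_add, hP, hQ, map_add, Polynomial.eval₂_add, add_smul]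
  | monomial n c =>
    rw [Polynomial.eval₂_monomial, Polynomial.derivative_monomial, Polynomial.eval₂_monomial, Derivation.leibniz,
      hφ, smul_zero, add_zero, Derivation.leibniz_pow, map_mul, map_natCast, mul_smul, mul_smul,
      ← Nat.cast_smul_eq_nsmul (A ⧸ p), smul_comm (n : A ⧸ p)]

end NagataLib
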