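import Groth.Agent.NagataLib.RankCount
import Groth.Agent.NagataLib.Extend
import Mathlib.RingTheory.Kaehler.Basic
import Mathlib.RingTheory.LocalRing.ResidueField.Ideal
import Mathlib.LinearAlgebra.Dual.Lemmas

/-!
# Separation of differentials by finitely many derivations
-/

set_option autoImplicit false
set_option linter.style.haveILetI false
set_option maxHeartbeats 800000

universe u

open IsLocalRing TensorProduct

namespace NagataLib

variable {A : Type u} [CommRing A] (p : Ideal A) [p.IsPrime]

/-- A linear map on differentials is zero on an element if all derivations vanish on it. -/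
theorem sum_D_eq_zero {L : Type u} [Field L] {n : ℕ} (c x : Fin n → L)
    (h : ∀ δ : Derivation ℤ L L, ∑ l, c l * δ (x l) = 0) :
    ∑ l, c l • KaehlerDifferential.D ℤ L (x l) = 0 := by
  refine (Module.forall_dual_apply_eq_zero_iff L _).1 fun φ => ?_
  rw [map_sum]
  refine Eq.trans (Finset.sum_congr rfl fun l _ => ?_) (h (φ.compDer (KaehlerDifferential.D ℤ L)))
  rw [map_smul, smul_eq_mul]
  rfl

/-- If the derivations detect the prime and separate derivations of the residue field, they separate all
derivations with values in the residue field. -/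
theorem separates_of {L : Type u} [Field L] [Algebra A L] (Ap : Type u) [CommRing Ap] [Algebra A Ap]
    [IsLocalization.AtPrime Ap p] [Algebra Ap L] [IsScalarTower A Ap L] (hsurj : Function.Surjective (algebraMap Ap L))
    (hker : ∀ a, algebraMap A L a = 0 ↔ a ∈ p) {N n : ℕ} (D : Fin N → Derivation ℤ A A) (hD : DetectsPrime p D)
    (x : Fin n → A)
    (hlift : ∀ δ : Derivation ℤ L L, ∃ v : Fin N → L, ∀ l,
      δ (algebraMap A L (x l)) = ∑ i, v i * algebraMap A L (D i (x l)))
    (c : Fin n → L) (hc : ∀ i, ∑ l, c l * algebraMap A L (D i (x l)) = 0)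
    (δ : Derivation ℤ A L) : ∑ l, c l * δ (x l) = 0 := by
  have hL : ∀ δ : Derivation ℤ L L, ∑ l, c l * δ (algebraMap A L (x l)) = 0 := fun δ => by
    obtain ⟨v, hv⟩ := hlift δ
    simp only [hv, Finset.mul_sum]
    rw [Finset.sum_comm]
    refine Finset.sum_eq_zero fun i _ => ?_
    rw [← mul_zero (v i), ← hc i, Finset.mul_sum]
    exact Finset.sum_congr rfl fun l _ => by ring
  let z : L ⊗[Ap] Ω[Ap⁄ℤ] := ∑ l, c l ⊗ₜ KaehlerDifferential.D ℤ Ap (algebraMap A Ap (x l))
  have hz : KaehlerDifferential.mapBaseChange ℤ Ap L z = 0 := by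
    rw [map_sum]
    refine Eq.trans (Finset.sum_congr rfl fun l _ => ?_) (sum_D_eq_zero c (fun l => algebraMap A L (x l)) hL)
    rw [KaehlerDifferential.mapBaseChange_tmul, KaehlerDifferential.map_D, ← IsScalarTower.algebraMap_apply]
  obtain ⟨g, hg⟩ := (KaehlerDifferential.exact_kerCotangentToTensor_mapBaseChange ℤ Ap L hsurj z).1 hz
  obtain ⟨⟨g, hgm⟩, rfl⟩ := Ideal.toCotangent_surjective _ g
  rw [KaehlerDifferential.kerCotangentToTensor_toCotangent] at hg
  obtain ⟨f, ⟨u, hu⟩, rfl⟩ := IsLocalization.exists_mk'_eq p.primeCompl g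
  have hf : f ∈ p := by
    rw [← hker, IsScalarTower.algebraMap_apply A Ap L, ← IsLocalization.mk'_spec Ap f ⟨u, hu⟩, map_mul,
      (RingHom.mem_ker.1 hgm : algebraMap Ap L _ = 0), zero_mul]
  have huL : algebraMap A L u ≠ 0 := fun h => hu ((hker u).1 h)
  have heval : ∀ δ : Derivation ℤ A L, ∑ l, c l * δ (x l) = δ f / algebraMap A L u := by
    intro δ
    obtain ⟨δ', hδ'⟩ := exists_extend p.primeCompl Ap δ
    have h := congrArg (δ'.liftKaehlerDifferential.liftBaseChange L) hg.symm
    rw [map_sum] at h
    simp only [LinearMap.liftBaseChange_tmul, Derivation.liftKaehlerDifferential_comp_D, hδ', smul_eq_mul,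
      one_mul] at h
    rw [h, eq_div_iff huL, ← hδ' f, ← IsLocalization.mk'_spec Ap f ⟨u, hu⟩, Derivation.leibniz,
      Algebra.smul_def, Algebra.smul_def, (RingHom.mem_ker.1 hgm : algebraMap Ap L _ = 0), zero_mul, zero_add,
      ← IsScalarTower.algebraMap_apply, mul_comm]
  have hDf : ∀ i, D i f ∈ p := fun i => by
    let δi : Derivation ℤ A L := Derivation.mk' ((algebraMap A L).toAddMonoidHom.comp
      (D i).toLinearMap.toAddMonoidHom).toIntLinearMap fun a b => by
      show algebraMap A L (D i (a * b)) = a • algebraMap A L (D i b) + b • algebraMap A L (D i a)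
      rw [Derivation.leibniz, smul_eq_mul, smul_eq_mul, map_add, map_mul, map_mul, Algebra.smul_def, Algebra.smul_def]
    have h := heval δi
    rw [show ∑ l, c l * δi (x l) = 0 from hc i, eq_comm, div_eq_zero_iff, or_iff_left huL] at h
    exact (hker _).1 h
  obtain ⟨w, hw, hwf⟩ := hD f hf hDf
  have h2 : δ (w * f) = 0 := by
    rw [pow_two] at hwf
    refine Submodule.mul_induction_on hwf (fun a ha b hb => ?_) fun a b ha hb => by rw [map_add, ha, hb, add_zero]
    rw [Derivation.leibniz, Algebra.smul_def, Algebra.smul_def, (hker a).2 ha, (hker b).2 hb, zero_mul, zero_mul,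
      add_zero]
  rw [Derivation.leibniz, Algebra.smul_def, Algebra.smul_def, (hker f).2 hf, zero_mul, add_zero, mul_eq_zero,
    or_iff_right fun h => hw ((hker w).1 h)] at h2
  rw [heval δ, h2, zero_div]

end NagataLib
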