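import Groth.Agent.NagataLib.Normalize
import Groth.Agent.NagataLib.SubfieldChoice
import Groth.Agent.NagataLib.Separation
import Groth.Agent.NagataLib.Descend

/-!
# Derivations detecting the differentials at a prime of a power series ring in characteristic `p`
-/

set_option autoImplicit false
set_option linter.style.haveILetI false
set_option maxHeartbeats 1600000
set_option synthInstance.maxHeartbeats 200000

universe u

open IsLocalRing Groth.Agent

namespace NagataLib

/-- An additive map transported along a ring isomorphism, as a derivation. -/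
def conjDer {B A : Type u} [CommRing B] [CommRing A] (e : B ≃+* A) (f : B →+ B)
    (h : ∀ a b, f (a * b) = a * f b + b * f a) : Derivation ℤ A A :=
  mkDer ((e.toAddMonoidHom.comp f).comp e.symm.toAddMonoidHom) fun a b => by
    show e (f (e.symm (a * b))) = a * e (f (e.symm b)) + b * e (f (e.symm a))
    rw [map_mul, h, map_add, map_mul, map_mul, e.apply_symm_apply, e.apply_symm_apply]

theorem conjDer_apply {B A : Type u} [CommRing B] [CommRing A] (e : B ≃+* A) (f : B →+ B)
    (h : ∀ a b, f (a * b) = a * f b + b * f a) (b : B) : conjDer e f h (e b) = e (f b) :=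
  congrArg (fun z => e (f z)) (e.symm_apply_apply b)

variable (p : ℕ) [Fact p.Prime] {K : Type u} [Field K] [CharP K p]

omit [CharP K p] in
/-- Subsets of `p`-independent sets are `p`-independent. -/
theorem setIndep_mono {L : Type u} [Field L] {R : Type u} [CommRing R] [Algebra R L] {S T : Set L} (h : S ⊆ T)
    (hT : PBasisLib.SetIndep (A := R) p T) : PBasisLib.SetIndep (A := R) p S :=
  PBasisLib.isPIndependent_comp p hT (f := fun s : S => (⟨s.1, h s.2⟩ : T))
    fun _ _ h => Subtype.ext (congrArg (fun t : T => (t : L)) h)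

/-- A finite field extension of exponent one has a finite `p`-basis with dual derivations. -/
theorem exists_coeff_basis (F : Subfield K) (hF : ∀ x : K, x ^ p ∈ F) [Module.Finite F K] :
    ∃ (e : ℕ) (t : Fin e → K) (d : Fin e → Derivation ℤ K K),
      (∀ j, ∀ c ∈ F, d j c = 0) ∧ (∀ j l, d j (t l) = if j = l then 1 else 0) ∧
      (∀ S : Subring K, (F : Set K) ⊆ S → (∀ j, t j ∈ S) → ∀ c, c ∈ S) ∧
      ∃ (κ : Type u) (_ : Fintype κ) (b : κ → K), Fintype.card κ = p ^ e ∧
        ∀ x : K, ∃ c : κ → F, ∑ j, (c j : K) * b j = x := by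
  classical
  let P := EGA41.pPowerSubalgebra p F K
  have hP : ∀ c ∈ P, c ∈ F := fun c hc => by
    induction hc using Algebra.adjoin_induction with
    | mem _ h => obtain ⟨b, rfl⟩ := h; exact hF b
    | algebraMap a => exact a.2
    | add _ _ _ _ ha hb => exact F.add_mem ha hb
    | mul _ _ _ _ ha hb => exact F.mul_mem ha hb
  let b₀ := Module.finBasis F K
  have hgen : EGA41.IsPGenerating p F (Subtype.val : Set.range b₀ → K) := by
    rw [PBasisLib.isPGenerating_iff, Subtype.range_coe, eq_top_iff]
    intro x _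
    rw [← b₀.sum_repr x]
    refine Subalgebra.sum_mem _ fun i _ => ?_
    rw [Algebra.smul_def, IsScalarTower.algebraMap_apply F P K]
    exact mul_mem (Subalgebra.algebraMap_mem _ _) (Algebra.subset_adjoin ⟨i, rfl⟩)
  obtain ⟨T, -, hTS, hT⟩ := PBasisLib.exists_pBasis_between (A := F) p (Set.range b₀) ∅ (Set.empty_subset _) hgen
    (PBasisLib.setIndep_empty (A := F) p)
  haveI : Finite T := ((Set.finite_range b₀).subset hTS).to_subtype
  letI : Fintype T := Fintype.ofFinite T
  let σ := (Fintype.equivFin T).symm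
  choose d hd using fun j : Fin (Fintype.card T) => PBasisLib.exists_derivation_base (A := F) (L := K) p hT
    fun t => if σ j = t then (1 : K) else 0
  refine ⟨Fintype.card T, fun j => (σ j : K), fun j => toAbs (d j),
    fun j c hc => (d j).map_algebraMap ⟨c, hc⟩, fun j l => ?_, fun S hFS htS c => ?_, ?_⟩
  · rw [toAbs_apply, hd]
    simp
  · have hc : c ∈ Algebra.adjoin P (Set.range (Subtype.val : T → K)) := by
      rw [(PBasisLib.isPGenerating_iff p _).mp hT.2]; trivial
    induction hc using Algebra.adjoin_induction with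
    | mem z h =>
      obtain ⟨z, rfl⟩ := h
      simpa using htS (σ.symm z)
    | algebraMap a => exact hFS (hP _ a.2)
    | add _ _ _ _ ha hb => exact S.add_mem ha hb
    | mul _ _ _ _ ha hb => exact S.mul_mem ha hb
  · let E := {e : T →₀ ℕ // ∀ i, e i < p}
    let eT : E ≃ (T → Fin p) :=
      { toFun := fun e i => ⟨e.1 i, e.2 i⟩
        invFun := fun f => ⟨Finsupp.equivFunOnFinite.symm fun i => (f i : ℕ), fun i => (f i).2⟩
        left_inv := fun e => Subtype.ext (Finsupp.ext fun i => rfl)
        right_inv := fun f => rfl }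
    letI : Fintype E := Fintype.ofEquiv _ eT.symm
    refine ⟨E, inferInstance, fun e => EGA41.pMonomial (Subtype.val : T → K) e.1, ?_, fun x => ?_⟩
    · rw [Fintype.card_congr eT, Fintype.card_fun, Fintype.card_fin]
    · obtain ⟨c, hc⟩ := (Submodule.mem_span_range_iff_exists_fun P).mp (hT.2.ge (Submodule.mem_top (x := x)))
      exact ⟨fun i => ⟨(c i : K), hP _ (c i).2⟩, hc⟩

include p in
/-- Finitely many derivations detect a prime of a power series ring and separate a finite family of independent
differentials. -/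
theorem exists_detect {r : ℕ} {A : Type u} [CommRing A] [IsLocalRing A] [IsNoetherianRing A]
    (e : MvPowerSeries (Fin r) K ≃+* A) (𝔭 : Ideal A) [𝔭.IsPrime] {L : Type u} [Field L] [Algebra A L]
    (Ap : Type u) [CommRing Ap] [Algebra A Ap] [IsLocalization.AtPrime Ap 𝔭] [Algebra Ap L] [IsScalarTower A Ap L]
    (hsurj : Function.Surjective (algebraMap Ap L)) (hker : ∀ a, algebraMap A L a = 0 ↔ a ∈ 𝔭)
    {n : ℕ} (x : Fin n → A) :
    ∃ (N : ℕ) (D : Fin N → Derivation ℤ A A), DetectsPrime 𝔭 D ∧
      ∀ c : Fin n → L, (∀ i, ∑ l, c l * algebraMap A L (D i (x l)) = 0) →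
        ∀ δ : Derivation ℤ A L, ∑ l, c l * δ (x l) = 0 := by
  classical
  let P := MvPowerSeries (Fin r) K
  haveI := CohenLib.isRegularLocalRing_mvPowerSeries K r
  haveI : IsRegularLocalRing A := IsRegularLocalRing.of_ringEquiv e
  haveI : IsRegularLocalRing (Localization.AtPrime 𝔭) :=
    isRegularRing_iff.1 (CommAlgDim.isRegularRing_of_isRegularLocalRing A) 𝔭
  -- the residue field is the fraction field of the quotient
  letI : Algebra (A ⧸ 𝔭) L :=
    (Ideal.Quotient.lift 𝔭 (algebraMap A L) fun a ha => (hker a).2 ha).toAlgebra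
  haveI : IsScalarTower A (A ⧸ 𝔭) L := IsScalarTower.of_algebraMap_eq fun _ => rfl
  have hinj : Function.Injective (algebraMap (A ⧸ 𝔭) L) := by
    rw [injective_iff_map_eq_zero]
    intro z hz
    obtain ⟨a, rfl⟩ := Ideal.Quotient.mk_surjective z
    rw [← Ideal.Quotient.algebraMap_eq, ← IsScalarTower.algebraMap_apply, hker] at hz
    exact Ideal.Quotient.eq_zero_iff_mem.2 hz
  haveI : FaithfulSMul (A ⧸ 𝔭) L := (faithfulSMul_iff_algebraMap_injective _ _).2 hinj
  haveI : IsFractionRing (A ⧸ 𝔭) L := IsFractionRing.of_field (A ⧸ 𝔭) L fun z => by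
    obtain ⟨y, rfl⟩ := hsurj z
    obtain ⟨a, ⟨b, hb⟩, rfl⟩ := IsLocalization.exists_mk'_eq 𝔭.primeCompl y
    refine ⟨Ideal.Quotient.mk 𝔭 a, Ideal.Quotient.mk 𝔭 b, ?_⟩
    show _ = algebraMap A L a / algebraMap A L b
    rw [eq_div_iff (fun h => hb ((hker b).1 h)), IsScalarTower.algebraMap_apply A Ap L a,
      IsScalarTower.algebraMap_apply A Ap L b, ← map_mul, IsLocalization.mk'_spec]
  -- normalisation
  obtain ⟨s, φ₀, hφ₀, hφ₀fin, hφ₀C⟩ := exists_normalization (𝔭.comap e.toRingHom)
  let ē : P ⧸ 𝔭.comap e.toRingHom ≃+* A ⧸ 𝔭 :=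
    Ideal.quotientEquiv _ 𝔭 e (Ideal.map_comap_of_surjective _ e.surjective 𝔭).symm
  let R := MvPowerSeries (Fin s) K
  let φ : R →+* A ⧸ 𝔭 := ē.toRingHom.comp φ₀
  have hφC : ∀ c, φ (MvPowerSeries.C c) = Ideal.Quotient.mk 𝔭 (e (MvPowerSeries.C c)) := fun c => by
    show ē (φ₀ _) = _
    rw [hφ₀C]
    rfl
  have hφinj : Function.Injective φ := ē.injective.comp hφ₀
  have hφfin : φ.Finite := (RingHom.Finite.of_surjective _ ē.surjective).comp hφ₀fin
  haveI : Nontrivial (A ⧸ 𝔭) := Ideal.Quotient.nontrivial_iff.2 (Ideal.IsPrime.ne_top ‹_›)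
  haveI : IsLocalRing (A ⧸ 𝔭) := IsLocalRing.of_surjective' _ Ideal.Quotient.mk_surjective
  haveI : Nontrivial (P ⧸ 𝔭.comap e.toRingHom) := ē.toEquiv.nontrivial
  haveI : IsLocalRing (P ⧸ 𝔭.comap e.toRingHom) := IsLocalRing.of_surjective' _ Ideal.Quotient.mk_surjective
  have hφX : ∀ j, φ (MvPowerSeries.X j) ∈ maximalIdeal (A ⧸ 𝔭) := fun j => by
    have h := X_mem_maximalIdeal _ s φ₀ hφ₀ hφ₀fin j
    rw [IsLocalRing.map_maximalIdeal_of_surjective _ Ideal.Quotient.mk_surjective, mem_maximalIdeal,
      mem_nonunits_iff] at h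
    rw [mem_maximalIdeal, mem_nonunits_iff]
    exact fun hu => h (by
      have h' := hu.map ē.symm
      rwa [show φ (MvPowerSeries.X j) = ē (φ₀ (MvPowerSeries.X j)) from rfl, ē.symm_apply_apply] at h')
  have hheight : (s : WithBot ℕ∞) + 𝔭.height = r := by
    rw [← RingEquiv.height_comap e 𝔭]
    exact add_height_eq _ s φ₀ hφ₀ hφ₀fin
  letI : Algebra R (A ⧸ 𝔭) := φ.toAlgebra
  haveI : Module.Finite R (A ⧸ 𝔭) := hφfin
  letI : Algebra R L := ((algebraMap (A ⧸ 𝔭) L).comp φ).toAlgebra
  haveI : IsScalarTower R (A ⧸ 𝔭) L := IsScalarTower.of_algebraMap_eq fun _ => rfl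
  haveI : IsDomain R := NoZeroDivisors.to_isDomain _
  haveI : FaithfulSMul R L := (faithfulSMul_iff_algebraMap_injective R L).2 (hinj.comp hφinj)
  letI : Algebra (FractionRing R) L := FractionRing.liftAlgebra R L
  haveI : FiniteDimensional (FractionRing R) L :=
    NormalLib.finiteDimensional_fractionRing (R := R) (S := A ⧸ 𝔭) (FractionRing R) L hφinj
  haveI : CharP R p := charP_of_injective_ringHom (MvPowerSeries.C (σ := Fin s) (R := K)).injective p
  haveI : CharP L p := charP_of_injective_ringHom (f := algebraMap R L) (hinj.comp hφinj) p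
  -- a maximal independent subfamily
  let xb : Fin n → L := fun l => algebraMap A L (x l)
  obtain ⟨T₀, -, hT₀sub, hT₀ind, hxT₀⟩ := PBasisLib.exists_setIndep_between (A := (⊥ : Subring L)) p (Set.range xb) ∅
    (Set.empty_subset _) (PBasisLib.setIndep_empty (A := (⊥ : Subring L)) p)
  obtain ⟨F, hF, hFfin, hT₀F, hbound⟩ :=
    exists_subfield p (K := K) (s := s) (L := L) (FractionRing R) T₀ ((Set.finite_range xb).subset hT₀sub) hT₀ind
  haveI := hFfin
  obtain ⟨q, t, d, hdF, hdt, hadj, κ, _, b, hκ, hb⟩ := exists_coeff_basis p F hF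
  let RS := CplExcLib.psSubring (n := s) p F
  -- the derivations
  let Dp : Fin r → Derivation ℤ A A := fun i =>
    conjDer e (MvPowerSeries.pderiv K i).toLinearMap.toAddMonoidHom fun a b =>
      (MvPowerSeries.pderiv K i).leibniz a b
  let Dc : Fin q → Derivation ℤ A A := fun j => conjDer e (coeffMap (d j)) (coeffMap_mul (d j))
  let D : Fin (r + q) → Derivation ℤ A A := Fin.addCases Dp Dc
  let Tv : Fin (r + q) → A :=
    Fin.addCases (fun i => e (MvPowerSeries.X i)) fun j => e (MvPowerSeries.C (t j))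
  have hpX : ∀ i i', Dp i (e (MvPowerSeries.X i')) = if i = i' then 1 else 0 := fun i i' => by
    refine (conjDer_apply e _ _ _).trans ?_
    show e (MvPowerSeries.pderiv K i (MvPowerSeries.X i')) = _
    rw [MvPowerSeries.pderiv_X]
    by_cases h : i = i' <;> simp [Pi.single_apply, h, eq_comm]
  have hpC : ∀ i c, Dp i (e (MvPowerSeries.C c)) = 0 := fun i c => by
    refine (conjDer_apply e _ _ _).trans ?_
    show e (MvPowerSeries.pderiv K i (MvPowerSeries.C c)) = _
    rw [MvPowerSeries.pderiv_C, map_zero]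
  have hcX : ∀ j i, Dc j (e (MvPowerSeries.X i)) = 0 := fun j i => by
    refine (conjDer_apply e _ _ _).trans ?_
    show e (coeffDer (d j) (MvPowerSeries.X i)) = _
    rw [coeffDer_X, map_zero]
  have hcC : ∀ j c, Dc j (e (MvPowerSeries.C c)) = e (MvPowerSeries.C (d j c)) := fun j c => by
    refine (conjDer_apply e _ _ _).trans ?_
    show e (coeffDer (d j) (MvPowerSeries.C c)) = _
    rw [coeffDer_C]
  have hT : ∀ i l, D i (Tv l) = if i = l then 1 else 0 := by
    intro i l
    induction i using Fin.addCases with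
    | left i =>
      induction l using Fin.addCases with
      | left l => simp [D, Tv, hpX]
      | right l => simp [D, Tv, hpC, Fin.ext_iff]; omega
    | right i =>
      induction l using Fin.addCases with
      | left l => simp [D, Tv, hcX, Fin.ext_iff]; omega
      | right l =>
        simp only [D, Tv, Fin.addCases_right, hcC, hdt]
        by_cases h : i = l <;> simp [h]
  have hDF : ∀ c ∈ F, ∀ i, D i (e (MvPowerSeries.C c)) = 0 := by
    intro c hc i
    induction i using Fin.addCases with
    | left i => simp [D, hpC]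
    | right j => simp [D, hcC, hdF j c hc]
  have hpL : ∀ y : L, (p : L) * y = 0 := fun y => by rw [CharP.cast_eq_zero, zero_mul]
  -- a `p`-basis over the subring
  obtain ⟨T, hT₀T, -, hTbasis⟩ := PBasisLib.exists_pBasis_between (A := RS) p Set.univ T₀ (Set.subset_univ _)
    (PBasisLib.isPGenerating_univ (A := RS) (K := L) p) hT₀F
  have hTcard : ∀ T' : Finset L, (T' : Set L) ⊆ T → T'.card ≤ s + q := fun T' hT' => by
    have h := hbound κ b hb T' (setIndep_mono p hT' hTbasis.1)
    rw [hκ, ← pow_add, Nat.pow_le_pow_iff_right (Fact.out : p.Prime).one_lt] at h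
    omega
  have hTfin : T.Finite := by
    by_contra hinf
    obtain ⟨T', hT', hcard⟩ := Set.Infinite.exists_subset_card_eq hinf (s + q + 1)
    have := hTcard T' hT'
    omega
  haveI : Fintype T := hTfin.fintype
  have hTle : Fintype.card T ≤ s + q := by
    have h := hTcard hTfin.toFinset (by simp)
    rwa [← Set.ncard_eq_toFinset_card _ hTfin, ← Nat.card_coe_set_eq, Nat.card_eq_fintype_card] at h
  -- detection
  have hann : Module.finrank L (annihilator (L := L) 𝔭 D) ≤ s + q := by
    choose a b hb' hab using fun t : T => IsFractionRing.div_surjective (A ⧸ 𝔭) (t : L)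
    choose a' ha' using fun t => Ideal.Quotient.mk_surjective (a t)
    choose b' hb'' using fun t => Ideal.Quotient.mk_surjective (b t)
    let w : T → Fin (r + q) → L := fun t i => (algebraMap (A ⧸ 𝔭) L (b t))⁻¹ * algebraMap A L (D i (a' t)) -
      algebraMap (A ⧸ 𝔭) L (a t) / algebraMap (A ⧸ 𝔭) L (b t) ^ 2 * algebraMap A L (D i (b' t))
    let Φ : annihilator (L := L) 𝔭 D →ₗ[L] (T → L) :=
      (LinearMap.pi fun t => ∑ i, w t i • LinearMap.proj i) ∘ₗ (annihilator (L := L) 𝔭 D).subtype
    have hΦ : ∀ v t, Φ v t = ∑ i, v.1 i * w t i := fun v t => by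
      simp [Φ, LinearMap.sum_apply, mul_comm]
    have hΦinj : Function.Injective Φ := by
      rw [injective_iff_map_eq_zero]
      rintro ⟨v, hv⟩ hv0
      obtain ⟨δ₀, hδ₀, hval₀⟩ := exists_descend 𝔭 D v hv
      let δ := mkDerTo δ₀.toLinearMap.toAddMonoidHom δ₀.leibniz
      have hδ : ∀ a, δ (Ideal.Quotient.mk 𝔭 a) = ∑ i, v i * algebraMap A L (D i a) := hδ₀
      have hval : ∀ x, δ x ∈ Submodule.span (A ⧸ 𝔭) (Set.range v) := hval₀
      obtain ⟨δL, hδL⟩ := exists_extend (nonZeroDivisors (A ⧸ 𝔭)) L δ
      have hδt : ∀ t : T, δL t = 0 := fun t => by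
        have h := congrFun hv0 t
        rw [hΦ] at h
        rw [← hab t, derivation_div _ _ _ (IsFractionRing.to_map_ne_zero_of_mem_nonZeroDivisors (hb' t)), hδL, hδL,
          smul_eq_mul, smul_eq_mul, ← ha' t, ← hb'' t, hδ, hδ, Finset.mul_sum, Finset.mul_sum,
          ← Finset.sum_sub_distrib]
        refine Eq.trans (Finset.sum_congr rfl fun i _ => ?_) h
        simp only [w, ha' t, hb'' t]
        ring
      have hδR : ∀ g ∈ RS, δ (φ g) = 0 := fun g hg =>
        derivation_series_eq_zero φ hφX δ _ (Submodule.fg_span (Set.finite_range v)) hval p (fun j => by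
            rw [Derivation.leibniz_pow, nsmul_eq_mul]
            exact hpL _) g (fun I => by
            rw [hφC, hδ]
            exact Finset.sum_eq_zero fun i _ => by rw [hDF _ (hg I).1, map_zero, mul_zero])
          fun I hI => (hg I).2 hI
      have hδ0 : δL = 0 := PBasisLib.derivation_ext p hTbasis.2 (fun c => by
          obtain ⟨c, hc⟩ := c
          show δL c = 0
          induction hc using Algebra.adjoin_induction with
          | mem _ h => obtain ⟨y, rfl⟩ := h; exact PBasisLib.derivation_pow p δL y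
          | algebraMap g => exact (hδL (φ g.1)).trans (hδR _ g.2)
          | add _ _ _ _ ha hb => rw [map_add, ha, hb, add_zero]
          | mul _ _ _ _ ha hb => rw [Derivation.leibniz, ha, hb, smul_zero, smul_zero, add_zero]) hδt
      refine Subtype.ext (funext fun j => ?_)
      have h1 := hδ (Tv j)
      rw [← hδL, hδ0, Finset.sum_eq_single j (fun i _ hi => by simp [hT, hi])
        (fun hn => absurd (Finset.mem_univ j) hn), hT, if_pos rfl, map_one, mul_one] at h1
      exact h1.symm
    have h1 := LinearMap.finrank_le_finrank_of_injective hΦinj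
    rw [Module.finrank_pi] at h1
    omega
  have hdet : DetectsPrime 𝔭 D := by
    refine detectsPrime_of_finrank_le 𝔭 (ker_algebraMap 𝔭 hinj) D (s + q) hann ?_
    rw [Nat.cast_add, Nat.cast_add, add_right_comm, hheight]
  refine ⟨r + q, D, hdet, fun c hc δ => separates_of 𝔭 Ap hsurj hker D hdet x (fun δ => ?_) c hc δ⟩
  -- derivations over the subring separate
  obtain ⟨δF, hδF⟩ := PBasisLib.exists_derivation_base (A := RS) (L := L) p hTbasis fun t => δ t
  have hagree : ∀ l, δ (xb l) = δF (xb l) := by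
    suffices hz : ∀ z ∈ Algebra.adjoin (EGA41.pPowerSubalgebra p (⊥ : Subring L) L) T₀, δ z = δF z from
      fun l => hz _ (hxT₀ ⟨l, rfl⟩)
    intro z hl
    induction hl using Algebra.adjoin_induction with
    | mem z h => exact (hδF ⟨z, hT₀T h⟩).symm
    | algebraMap c =>
      obtain ⟨c, hc⟩ := c
      show δ c = δF c
      induction hc using Algebra.adjoin_induction with
      | mem _ h => obtain ⟨y, rfl⟩ := h; rw [PBasisLib.derivation_pow p δ, PBasisLib.derivation_pow p δF]
      | algebraMap g =>
        obtain ⟨m, hm⟩ := Subring.mem_bot.1 g.2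
        show δ (g : L) = δF (g : L)
        rw [← hm, Derivation.map_intCast, Derivation.map_intCast]
      | add _ _ _ _ ha hb => rw [map_add, map_add, ha, hb]
      | mul _ _ _ _ ha hb => rw [Derivation.leibniz, Derivation.leibniz, ha, hb]
    | add _ _ _ _ ha hb => rw [map_add, map_add, ha, hb]
    | mul _ _ _ _ ha hb => rw [Derivation.leibniz, Derivation.leibniz, ha, hb]
  let v : Fin (r + q) → L := fun i => δF (algebraMap A L (Tv i))
  refine ⟨v, fun l => ?_⟩
  -- the difference kills every series
  let δ' : Derivation ℤ A L :=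
    Derivation.mk' (AddMonoidHom.mk' (fun a => δF (algebraMap A L a) - ∑ i, v i * algebraMap A L (D i a))
      fun a b => by
        simp only [map_add, mul_add, Finset.sum_add_distrib]
        ring).toIntLinearMap fun a b => by
      show δF (algebraMap A L (a * b)) - ∑ i, v i * algebraMap A L (D i (a * b)) =
        a • (δF (algebraMap A L b) - ∑ i, v i * algebraMap A L (D i b)) +
          b • (δF (algebraMap A L a) - ∑ i, v i * algebraMap A L (D i a))
      simp only [map_mul, Derivation.leibniz, smul_eq_mul, Algebra.smul_def, map_add, mul_sub, Finset.mul_sum]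
      rw [show ∀ (u₁ u₂ u₃ u₄ : L), u₁ - u₂ + (u₃ - u₄) = u₁ + u₃ - (u₂ + u₄) from fun _ _ _ _ => by ring,
        ← Finset.sum_add_distrib]
      exact congrArg _ (Finset.sum_congr rfl fun i _ => by ring)
  haveI : Module.Finite RS R := CplExcLib.finite_psSubring p F (Fact.out : p.Prime).pos
  haveI : Module.Finite RS (A ⧸ 𝔭) := Module.Finite.trans R (A ⧸ 𝔭)
  obtain ⟨G, hG⟩ := (inferInstance : Module.Finite RS (A ⧸ 𝔭)).fg_top
  let N : Submodule A L :=
    Submodule.span A (((fun y => δF (algebraMap (A ⧸ 𝔭) L y)) '' (G : Set (A ⧸ 𝔭))) ∪ Set.range v)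
  have hN : N.FG := Submodule.fg_span ((G.finite_toSet.image _).union (Set.finite_range _))
  have hδFN : ∀ y, δF (algebraMap (A ⧸ 𝔭) L y) ∈ N := fun y => by
    have : y ∈ Submodule.span RS (G : Set (A ⧸ 𝔭)) := hG ▸ Submodule.mem_top
    induction this using Submodule.span_induction with
    | mem z hz => exact Submodule.subset_span (Or.inl ⟨z, hz, rfl⟩)
    | zero => rw [map_zero, map_zero]; exact zero_mem _
    | add _ _ _ _ ha hb => rw [map_add, map_add]; exact add_mem ha hb
    | smul g z _ hz =>
      obtain ⟨g', hg'⟩ := Ideal.Quotient.mk_surjective (φ g.1)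
      rw [Algebra.smul_def, map_mul, ← IsScalarTower.algebraMap_apply RS (A ⧸ 𝔭) L, Derivation.leibniz,
        Derivation.map_algebraMap, smul_zero, add_zero, smul_eq_mul,
        show algebraMap RS L g = algebraMap A L g' from congrArg (algebraMap (A ⧸ 𝔭) L) hg'.symm,
        ← Algebra.smul_def]
      exact Submodule.smul_mem _ _ hz
  have hδ'N : ∀ a, δ' a ∈ N := fun a => by
    refine sub_mem (by rw [IsScalarTower.algebraMap_apply A (A ⧸ 𝔭) L]; exact hδFN _)
      (Submodule.sum_mem _ fun i _ => ?_)
    rw [mul_comm, ← Algebra.smul_def]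
    exact Submodule.smul_mem _ _ (Submodule.subset_span (Or.inr ⟨i, rfl⟩))
  have hδ'T : ∀ i, δ' (Tv i) = 0 := fun i => by
    show v i - ∑ j, v j * algebraMap A L (D j (Tv i)) = 0
    rw [Finset.sum_eq_single i (fun j _ hj => by simp [hT, hj]) (fun hn => absurd (Finset.mem_univ i) hn), hT,
      if_pos rfl, map_one, mul_one, sub_self]
  have hδ'F : ∀ c ∈ F, δ' (e (MvPowerSeries.C c)) = 0 := fun c hc => by
    show δF (algebraMap A L (e (MvPowerSeries.C c))) - _ = 0
    have hcR : (MvPowerSeries.C c : R) ∈ RS := fun I => by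
      rw [MvPowerSeries.coeff_C]
      split_ifs with h
      · exact ⟨hc, fun _ i => by simp [h]⟩
      · exact ⟨F.zero_mem, fun h0 => absurd rfl h0⟩
    have h : algebraMap A L (e (MvPowerSeries.C c)) = algebraMap RS L ⟨_, hcR⟩ := by
      show _ = algebraMap (A ⧸ 𝔭) L (φ (MvPowerSeries.C c))
      rw [hφC]
      rfl
    rw [h, Derivation.map_algebraMap, zero_sub, neg_eq_zero]
    exact Finset.sum_eq_zero fun i _ => by rw [hDF c hc, map_zero, mul_zero]
  have hδ'C : ∀ c, δ' (e (MvPowerSeries.C c)) = 0 :=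
    hadj ((derKer δ').comap (e.toRingHom.comp MvPowerSeries.C)) hδ'F fun j => by
      have h := hδ'T (Fin.natAdd r j)
      simp only [Tv, Fin.addCases_right] at h
      exact h
  have h0 : δ' (x l) = 0 := by
    rw [← e.apply_symm_apply (x l)]
    refine derivation_series_eq_zero e.toRingHom (fun i => ?_) δ' N hN hδ'N 1 (fun i => ?_) _ (fun I => hδ'C _)
      fun I _ i => one_dvd _
    · rw [mem_maximalIdeal, mem_nonunits_iff]
      intro hu
      have h := hu.map e.symm
      simp only [RingEquiv.toRingHom_eq_coe, RingHom.coe_coe, RingEquiv.symm_apply_apply] at h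
      rw [MvPowerSeries.isUnit_iff_constantCoeff, MvPowerSeries.constantCoeff_X] at h
      exact not_isUnit_zero h
    · have h := hδ'T (Fin.castAdd q i)
      simp only [Tv, Fin.addCases_left] at h
      rw [pow_one]
      exact h
  exact (hagree l).trans (sub_eq_zero.1 h0)

end NagataLib
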