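import Groth.Agent.NagataLib.RankCount
import Groth.Agent.JacFSLib.Basic
import Groth.Agent.S4575
import Groth.Agent.CommAlgDim.GlobalDim
import Groth.Prelude.Def_CAlgX
import Mathlib.LinearAlgebra.Matrix.NonsingularInverse
import Mathlib.RingTheory.Nilpotent.Lemmas

/-!
# The Jacobian criterion at a prime of a quotient
-/

set_option autoImplicit false
set_option linter.style.haveILetI false

universe u

open IsLocalRing

namespace NagataLib

variable {A : Type u} [CommRing A] (q p : Ideal A) [p.IsPrime]

/-- Generators of the localised ideal with an invertible Jacobian. -/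
def HasJacobian {ι : Type*} (D : ι → Derivation ℤ A A) : Prop :=
  ∃ (m : ℕ) (σ : Fin m → ι) (f : Fin m → A), (∀ i, f i ∈ q) ∧
    q.map (algebraMap A (Localization.AtPrime p)) =
      Ideal.span (Set.range fun i => algebraMap A (Localization.AtPrime p) (f i)) ∧
    Matrix.det (Matrix.of fun i j => D (σ i) (f j)) ∉ p

variable (hqp : q ≤ p) [(p.map (Ideal.Quotient.mk q)).IsPrime]

include hqp in
/-- The local ring of the quotient as a quotient of the local ring. -/
theorem exists_toQuotient :
    ∃ π : Localization.AtPrime p →+* Localization.AtPrime (p.map (Ideal.Quotient.mk q)), Function.Surjective π ∧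
      RingHom.ker π = q.map (algebraMap A (Localization.AtPrime p)) ∧
      ∀ a, π (algebraMap A _ a) = algebraMap (A ⧸ q) _ (Ideal.Quotient.mk q a) := by
  let p' := p.map (Ideal.Quotient.mk q)
  let Ap := Localization.AtPrime p
  let C := Localization.AtPrime p'
  have hp : p = p'.comap (Ideal.Quotient.mk q) := by
    rw [Ideal.comap_map_of_surjective _ Ideal.Quotient.mk_surjective, ← RingHom.ker_eq_comap_bot, Ideal.mk_ker,
      sup_eq_left.2 hqp]
  let π : Ap →+* C := Localization.localRingHom p p' (Ideal.Quotient.mk q) hp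
  have hπ : ∀ b, π (algebraMap A Ap b) = algebraMap (A ⧸ q) C (Ideal.Quotient.mk q b) := fun b =>
    Localization.localRingHom_to_map p p' (Ideal.Quotient.mk q) hp b
  refine ⟨π, fun z => ?_, le_antisymm (fun z hz => ?_) (Ideal.map_le_iff_le_comap.2 fun b hb => ?_), hπ⟩
  · obtain ⟨t, ⟨u, hu⟩, rfl⟩ := IsLocalization.exists_mk'_eq p'.primeCompl z
    obtain ⟨t, rfl⟩ := Ideal.Quotient.mk_surjective t
    obtain ⟨u, rfl⟩ := Ideal.Quotient.mk_surjective u
    have hu' : u ∈ p.primeCompl := fun h => hu (Ideal.mem_map_of_mem _ h)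
    exact ⟨IsLocalization.mk' Ap t ⟨u, hu'⟩, Localization.localRingHom_mk' p p' (Ideal.Quotient.mk q) hp t ⟨u, hu'⟩⟩
  · obtain ⟨t, s, rfl⟩ := IsLocalization.exists_mk'_eq p.primeCompl z
    have h1 : π (algebraMap A Ap t) = 0 := by
      rw [← IsLocalization.mk'_spec Ap t s, map_mul, (RingHom.mem_ker.1 hz : π _ = 0), zero_mul]
    rw [hπ, IsLocalization.map_eq_zero_iff p'.primeCompl] at h1
    obtain ⟨⟨w, hw⟩, hw0⟩ := h1
    obtain ⟨w, rfl⟩ := Ideal.Quotient.mk_surjective w
    have hw' : w ∈ p.primeCompl := fun h => hw (Ideal.mem_map_of_mem _ h)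
    rw [← map_mul, Ideal.Quotient.eq_zero_iff_mem] at hw0
    exact (IsLocalization.mk'_mem_map_algebraMap_iff p.primeCompl Ap q t s).2 ⟨w, hw', hw0⟩
  · rw [Ideal.mem_comap, RingHom.mem_ker, hπ, Ideal.Quotient.eq_zero_iff_mem.2 hb, map_zero]

include hqp in
/-- A detected regular point has generators with invertible Jacobian. -/
theorem hasJacobian_of_regular [IsNoetherianRing A] [IsRegularLocalRing (Localization.AtPrime p)] {ι : Type*}
    (D : ι → Derivation ℤ A A) (hD : DetectsPrime p D)
    (hreg : IsRegularLocalRing (Localization.AtPrime (p.map (Ideal.Quotient.mk q)))) : HasJacobian q p D := by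
  classical
  let Ap := Localization.AtPrime p
  let L := p.ResidueField
  obtain ⟨π, hπs, hπk, -⟩ := exists_toQuotient q p hqp
  obtain ⟨m, f, hf, hgen, hmin⟩ := JacFSLib.exists_min_generators p q
  have hne : q.map (algebraMap A Ap) ≠ ⊤ := ne_top_of_le_ne_top (maximalIdeal.isMaximal Ap).ne_top (by
    rw [← IsLocalization.AtPrime.map_eq_maximalIdeal p Ap]; exact Ideal.map_mono hqp)
  haveI : Nontrivial (Ap ⧸ q.map (algebraMap A Ap)) := Ideal.Quotient.nontrivial_iff.2 hne
  haveI : IsLocalRing (Ap ⧸ q.map (algebraMap A Ap)) := IsLocalRing.of_surjective' _ Ideal.Quotient.mk_surjective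
  haveI : IsRegularLocalRing (Ap ⧸ q.map (algebraMap A Ap)) :=
    haveI := hreg
    IsRegularLocalRing.of_ringEquiv ((Ideal.quotEquivOfEq hπk.symm).trans
      (RingHom.quotientKerEquivOfSurjective hπs)).symm
  have hsq := Groth.Agent.S4575.result (q.map (algebraMap A Ap)) hne (CommAlgDim.isRegularRing_of_isRegularLocalRing _)
  let w : Fin m → ι → L := fun j i => algebraMap A L (D i (f j))
  have hker : ∀ a, algebraMap A L a = 0 ↔ a ∈ p := fun a => Ideal.algebraMap_residueField_eq_zero
  have hwli : LinearIndependent L w := by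
    rw [Fintype.linearIndependent_iff]
    intro c hc j
    choose c' hc' using fun j => residue_surjective (R := Ap) (c j)
    obtain ⟨d, hd⟩ := IsLocalization.exist_integer_multiples p.primeCompl Finset.univ c'
    choose a ha using fun j => hd j (Finset.mem_univ j)
    have hac : ∀ j, algebraMap A L (a j) = algebraMap A L (d : A) * c j := fun j => by
      rw [← hc' j, IsScalarTower.algebraMap_apply A Ap L, IsScalarTower.algebraMap_apply A Ap L (d : A), ha j,
        Algebra.smul_def, map_mul]
      rfl
    let g := ∑ j, a j * f j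
    have hg : ∀ i, D i g ∈ p := fun i => by
      rw [← hker, map_sum, map_sum]
      have h1 := congrArg (fun z => algebraMap A L (d : A) * z) (congrFun hc i)
      simp only [Finset.sum_apply, Pi.smul_apply, smul_eq_mul, Pi.zero_apply, mul_zero, Finset.mul_sum] at h1
      refine Eq.trans (Finset.sum_congr rfl fun j _ => ?_) h1
      rw [Derivation.leibniz, smul_eq_mul, smul_eq_mul, map_add, map_mul, map_mul, (hker _).2 (hqp (hf j)),
        zero_mul, add_zero, hac, mul_assoc]
    have hgq : g ∈ q := Ideal.sum_mem _ fun j _ => Ideal.mul_mem_left _ _ (hf j)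
    obtain ⟨u, hu, hug⟩ := hD g (hqp hgq) hg
    have h2 : algebraMap A Ap g ∈ maximalIdeal Ap * q.map (algebraMap A Ap) := by
      rw [← hsq]
      refine ⟨Ideal.mem_map_of_mem _ hgq, ?_⟩
      have h3 := Ideal.mem_map_of_mem (algebraMap A Ap) hug
      rw [Ideal.map_pow, IsLocalization.AtPrime.map_eq_maximalIdeal p Ap, map_mul] at h3
      exact (Ideal.unit_mul_mem_iff_mem _ (IsLocalization.map_units Ap (⟨u, hu⟩ : p.primeCompl))).1 h3
    have h4 := hmin (fun j => algebraMap A Ap (a j)) (by simpa [g, map_sum, map_mul] using h2) j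
    have h5 : algebraMap A L (a j) = 0 := by
      rw [IsScalarTower.algebraMap_apply A Ap L]
      exact (residue_eq_zero_iff _).2 h4
    rw [hac] at h5
    exact (mul_eq_zero.1 h5).resolve_left fun h => d.2 ((hker _).1 h)
  -- columns span
  let col : ι → Fin m → L := fun i j => w j i
  have hspan : Submodule.span L (Set.range col) = ⊤ := by
    by_contra hne'
    obtain ⟨φ, hφ0, hφ⟩ := Submodule.exists_dual_map_eq_bot_of_lt_top (lt_top_iff_ne_top.2 hne') inferInstance
    refine hφ0 (LinearMap.pi_ext' fun j => LinearMap.ext_ring ?_)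
    have hzero : ∑ j, φ (Pi.single j 1) • w j = 0 := by
      funext i
      have h1 : φ (col i) = 0 := by
        rw [← Submodule.mem_bot (R := L), ← hφ]
        exact ⟨col i, Submodule.subset_span ⟨i, rfl⟩, rfl⟩
      rw [pi_eq_sum_univ' (col i), map_sum] at h1
      simpa [Finset.sum_apply, mul_comm, col] using h1
    simpa using (Fintype.linearIndependent_iff.1 hwli) _ hzero j
  obtain ⟨κ, σ, -, hσspan, hσli⟩ := exists_linearIndependent' L col
  haveI : Finite κ := hσli.finite
  haveI : Fintype κ := Fintype.ofFinite κ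
  have hcard : Fintype.card κ = m := by
    let b := Module.Basis.mk hσli (by rw [hσspan, hspan])
    rw [← Module.finrank_eq_card_basis b, Module.finrank_fin_fun]
  let e : Fin m ≃ κ := ((Fintype.equivFin κ).trans (finCongr hcard)).symm
  refine ⟨m, σ ∘ e, f, hf, hgen, fun hdet => ?_⟩
  have hunit : IsUnit ((Matrix.of fun i j => D (σ (e i)) (f j)).map (algebraMap A L)) := by
    rw [← Matrix.linearIndependent_rows_iff_isUnit]
    exact hσli.comp e e.injective
  rw [Matrix.isUnit_iff_isUnit_det, ← RingHom.mapMatrix_apply, ← RingHom.map_det] at hunit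
  exact hunit.ne_zero ((hker _).2 hdet)

include hqp in
/-- Generators with invertible Jacobian give formal smoothness. -/
theorem adicFS_of_hasJacobian {k : Type u} [CommRing k] [Algebra k A]
    (hA : CAlgX.IsAdicFormallySmooth k (Localization.AtPrime p) (maximalIdeal (Localization.AtPrime p)))
    {ι : Type*} (D : ι → Derivation ℤ A A) (hDk : ∀ i c, D i (algebraMap k A c) = 0) (hJ : HasJacobian q p D) :
    CAlgX.IsAdicFormallySmooth k (Localization.AtPrime (p.map (Ideal.Quotient.mk q)))
      (maximalIdeal (Localization.AtPrime (p.map (Ideal.Quotient.mk q)))) := by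
  classical
  obtain ⟨m, σ, f, hf, hgen, hdet⟩ := hJ
  obtain ⟨π, hπs, hπk, hπa⟩ := exists_toQuotient q p hqp
  let Ap := Localization.AtPrime p
  intro C _ _ J hJ2 ψ ⟨l, hl⟩
  let πk : Ap →ₐ[k] Localization.AtPrime (p.map (Ideal.Quotient.mk q)) :=
    { π with
      commutes' := fun c => by
        show π (algebraMap k Ap c) = _
        rw [IsScalarTower.algebraMap_apply k A Ap, hπa, Ideal.Quotient.mk_algebraMap,
          ← IsScalarTower.algebraMap_apply] }
  haveI : IsLocalHom π := IsLocalHom.of_surjective π hπs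
  obtain ⟨χ, hχ⟩ := hA C J hJ2 (ψ.comp πk) ⟨l, fun x hx => hl _ (by
    have h1 := Ideal.mem_map_of_mem π hx
    rw [Ideal.map_pow] at h1
    exact Ideal.pow_right_mono (IsLocalRing.map_maximalIdeal_le π) l h1)⟩
  let χA : A →+* C := χ.toRingHom.comp (algebraMap A Ap)
  have hχJ : ∀ j, χA (f j) ∈ J := fun j => by
    rw [← Ideal.Quotient.eq_zero_iff_mem]
    refine (AlgHom.congr_fun hχ _).trans ?_
    show ψ (π (algebraMap A Ap (f j))) = 0
    rw [hπa, Ideal.Quotient.eq_zero_iff_mem.2 (hf j), map_zero, map_zero]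
  have hJ0 : ∀ a ∈ J, ∀ b ∈ J, a * b = 0 := fun a ha b hb => by
    have h1 := Ideal.mul_mem_mul ha hb
    rwa [← pow_two, hJ2, Ideal.mem_bot] at h1
  let M : Matrix (Fin m) (Fin m) C := (Matrix.of fun i j => D (σ i) (f j)).map χA
  have hM : IsUnit M.det := by
    show IsUnit ((χA.mapMatrix (Matrix.of fun i j => D (σ i) (f j))).det)
    rw [← RingHom.map_det]
    exact (IsLocalization.map_units Ap (⟨_, hdet⟩ : p.primeCompl)).map χ.toRingHom
  let c : Fin m → C := fun i => ∑ j, χA (f j) * M⁻¹ j i
  have hcJ : ∀ i, c i ∈ J := fun i => Ideal.sum_mem _ fun j _ => Ideal.mul_mem_right _ _ (hχJ j)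
  let E : A → C := fun a => ∑ i, c i * χA (D (σ i) a)
  have hE : ∀ a, E a ∈ J := fun a => Ideal.sum_mem _ fun i _ => Ideal.mul_mem_right _ _ (hcJ i)
  have hEmul : ∀ a b, E (a * b) = χA a * E b + χA b * E a := fun a b => by
    simp only [E, Derivation.leibniz, smul_eq_mul, map_add, map_mul, Finset.mul_sum, ← Finset.sum_add_distrib]
    exact Finset.sum_congr rfl fun i _ => by ring
  have hEadd : ∀ a b, E (a + b) = E a + E b := fun a b => by
    simp only [E, map_add, mul_add, Finset.sum_add_distrib]
  let χ' : A →+* C :=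
    { toFun := fun a => χA a - E a
      map_one' := by simp [E]
      map_zero' := by simp [E]
      map_add' := fun a b => by rw [map_add, hEadd]; ring
      map_mul' := fun a b => by
        rw [map_mul, hEmul]
        linear_combination -(hJ0 _ (hE a) _ (hE b)) }
  have hkill : ∀ j, χ' (f j) = 0 := fun j => by
    show χA (f j) - ∑ i, c i * χA (D (σ i) (f j)) = 0
    have h1 : ∀ l, ∑ i, M⁻¹ l i * M i j = if l = j then 1 else 0 := fun l => by
      rw [← Matrix.one_apply, ← Matrix.nonsing_inv_mul M hM, Matrix.mul_apply]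
    simp only [c, Finset.sum_mul]
    rw [Finset.sum_comm]
    simp only [mul_assoc, show ∀ i, χA (D (σ i) (f j)) = M i j from fun i => rfl, ← Finset.mul_sum, h1]
    simp
  have hunit : ∀ y : p.primeCompl, IsUnit (χ' y) := fun y => by
    have h1 : IsUnit (χA y) := (IsLocalization.map_units Ap y).map χ.toRingHom
    obtain ⟨v, hv⟩ := h1
    have hnil : IsNilpotent (-E y) := ⟨2, by rw [neg_sq, pow_two]; exact hJ0 _ (hE _) _ (hE _)⟩
    show IsUnit (χA y - E y)
    rw [sub_eq_add_neg, ← hv]
    exact hnil.isUnit_add_left_of_commute v.isUnit (Commute.all _ _)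
  let χp : Ap →+* C := IsLocalization.lift hunit
  have hχp : ∀ a, χp (algebraMap A Ap a) = χ' a := fun a => IsLocalization.lift_eq hunit a
  have hkq : ∀ z ∈ RingHom.ker π, χp z = 0 := by
    have hle : q.map (algebraMap A Ap) ≤ RingHom.ker χp := by
      rw [hgen, Ideal.span_le]
      rintro _ ⟨j, rfl⟩
      exact RingHom.mem_ker.2 ((hχp _).trans (hkill j))
    exact fun z hz => hle (hπk ▸ hz)
  let χf := RingHom.liftOfSurjective π hπs ⟨χp, hkq⟩
  have hχf : ∀ z, χf (π z) = χp z := fun z => RingHom.liftOfRightInverse_comp_apply π _ _ ⟨χp, hkq⟩ z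
  refine ⟨{ χf with commutes' := fun c' => ?_ }, AlgHom.coe_ringHom_injective ?_⟩
  · show χf (algebraMap k _ c') = _
    rw [← πk.commutes]
    show χf (π (algebraMap k Ap c')) = _
    rw [hχf, IsScalarTower.algebraMap_apply k A Ap, hχp]
    show χA (algebraMap k A c') - E (algebraMap k A c') = _
    rw [show E (algebraMap k A c') = 0 by simp [E, hDk], sub_zero]
    show χ (algebraMap A Ap (algebraMap k A c')) = _
    rw [← IsScalarTower.algebraMap_apply, χ.commutes]
  · refine RingHom.ext fun z => ?_
    obtain ⟨z, rfl⟩ := hπs z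
    show Ideal.Quotient.mk J (χf (π z)) = ψ (π z)
    rw [hχf]
    have h1 : (Ideal.Quotient.mk J).comp χp = ψ.toRingHom.comp π := by
      refine IsLocalization.ringHom_ext p.primeCompl (RingHom.ext fun a => ?_)
      show Ideal.Quotient.mk J (χp (algebraMap A Ap a)) = ψ (π (algebraMap A Ap a))
      rw [hχp]
      show Ideal.Quotient.mk J (χA a - E a) = _
      rw [map_sub, Ideal.Quotient.eq_zero_iff_mem.2 (hE a), sub_zero]
      exact AlgHom.congr_fun hχ _
    exact RingHom.congr_fun h1 z

end NagataLib
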