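import Groth.Agent.NagataLib.Separable
import Groth.Agent.NagataLib.Jacobian
import Groth.Agent.CatLib.CM
import Groth.Agent.WeilLib.Dim
import Groth.Agent.CohenLib.FSRegular
import Mathlib.RingTheory.MvPowerSeries.Derivative

/-!
# Primes of power series rings with separable normalisation
-/

set_option autoImplicit false
set_option linter.style.haveILetI false

universe u

open IsLocalRing

namespace NagataLib

variable {k : Type u} [Field k] {r : ℕ}

/-- A derivation as an absolute derivation. -/
def toAbs {k A : Type u} [CommRing k] [CommRing A] [Algebra k A] (D : Derivation k A A) : Derivation ℤ A A :=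
  Derivation.mk' D.toLinearMap.toAddMonoidHom.toIntLinearMap D.leibniz

theorem toAbs_apply {k A : Type u} [CommRing k] [CommRing A] [Algebra k A] (D : Derivation k A A) (a : A) :
    toAbs D a = D a := rfl

/-- The partial derivatives as absolute derivations. -/
noncomputable def partials (k : Type u) [Field k] (r : ℕ) :
    Fin r → @Derivation ℤ (MvPowerSeries (Fin r) k) (MvPowerSeries (Fin r) k) _ CommRing.toCommSemiring _
      (Ring.toIntAlgebra _) _ _ :=
  fun i => toAbs (MvPowerSeries.pderiv k i)

theorem partials_algebraMap (i : Fin r) (c : k) :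
    partials k r i (algebraMap k (MvPowerSeries (Fin r) k) c) = 0 :=
  (MvPowerSeries.pderiv k i).map_algebraMap c

variable (p : Ideal (MvPowerSeries (Fin r) k)) [p.IsPrime]

theorem isRegularLocalRing_atPrime : IsRegularLocalRing (Localization.AtPrime p) := by
  haveI := CohenLib.isRegularLocalRing_mvPowerSeries k r
  haveI : IsRegularRing (MvPowerSeries (Fin r) k) := CommAlgDim.isRegularRing_of_isRegularLocalRing _
  exact isRegularRing_iff.1 inferInstance p

/-- Dimension and height of a prime of a power series ring with a finite normalisation. -/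
theorem add_height_eq (s : ℕ) (φ : MvPowerSeries (Fin s) k →+* MvPowerSeries (Fin r) k ⧸ p)
    (hinj : Function.Injective φ) (hfin : φ.Finite) : (s : WithBot ℕ∞) + p.height = r := by
  haveI := CohenLib.isRegularLocalRing_mvPowerSeries k r
  have h := CatLib.ringKrullDim_quotient_add_height (CommAlgDim.isCM_of_isRegularLocalRing _) p
  letI := φ.toAlgebra
  haveI : Module.Finite (MvPowerSeries (Fin s) k) (MvPowerSeries (Fin r) k ⧸ p) := hfin
  rwa [WeilLib.ringKrullDim_eq_of_integral (MvPowerSeries (Fin s) k) _ hinj,
    CohenLib.ringKrullDim_mvPowerSeries_field, CohenLib.ringKrullDim_mvPowerSeries_field] at h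

/-- The variables of a finite normalisation lie in the maximal ideal. -/
theorem X_mem_maximalIdeal (s : ℕ) (φ : MvPowerSeries (Fin s) k →+* MvPowerSeries (Fin r) k ⧸ p)
    (hinj : Function.Injective φ) (hfin : φ.Finite) (j : Fin s) :
    φ (MvPowerSeries.X j) ∈ (maximalIdeal (MvPowerSeries (Fin r) k)).map (Ideal.Quotient.mk p) := by
  letI := φ.toAlgebra
  haveI : Module.Finite (MvPowerSeries (Fin s) k) (MvPowerSeries (Fin r) k ⧸ p) := hfin
  haveI : Nontrivial (MvPowerSeries (Fin r) k ⧸ p) := Ideal.Quotient.nontrivial_iff.2 (Ideal.IsPrime.ne_top ‹_›)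
  haveI : IsLocalRing (MvPowerSeries (Fin r) k ⧸ p) := IsLocalRing.of_surjective' _ Ideal.Quotient.mk_surjective
  rw [IsLocalRing.map_maximalIdeal_of_surjective _ Ideal.Quotient.mk_surjective]
  haveI : ((maximalIdeal (MvPowerSeries (Fin r) k ⧸ p)).comap
      (algebraMap (MvPowerSeries (Fin s) k) (MvPowerSeries (Fin r) k ⧸ p))).IsMaximal :=
    Ideal.isMaximal_comap_of_isIntegral_of_isMaximal _
  refine (show maximalIdeal (MvPowerSeries (Fin s) k) ≤ (maximalIdeal _).comap φ from
    (IsLocalRing.eq_maximalIdeal this).ge) ?_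
  rw [CohenLib.maximalIdeal_mvPowerSeries_field]
  exact Ideal.subset_span ⟨j, rfl⟩

/-- Partial derivatives detect a prime with separable normalisation. -/
theorem detectsPrime_partials {L : Type u} [Field L] [Algebra (MvPowerSeries (Fin r) k ⧸ p) L]
    (hL : Function.Injective (algebraMap (MvPowerSeries (Fin r) k ⧸ p) L)) (s : ℕ)
    (φ : MvPowerSeries (Fin s) k →+* MvPowerSeries (Fin r) k ⧸ p) (hinj : Function.Injective φ) (hfin : φ.Finite)
    (hC : ∀ c, φ (MvPowerSeries.C c) = Ideal.Quotient.mk p (algebraMap k (MvPowerSeries (Fin r) k) c))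
    (K' : Type u) [Field K'] [Algebra (MvPowerSeries (Fin s) k) K'] [IsFractionRing (MvPowerSeries (Fin s) k) K']
    [Algebra K' L] [Algebra.IsSeparable K' L]
    (hcomp : ∀ g, algebraMap K' L (algebraMap _ K' g) = algebraMap (MvPowerSeries (Fin r) k ⧸ p) L (φ g)) :
    DetectsPrime p (partials k r) := by
  classical
  letI : Algebra (MvPowerSeries (Fin r) k) L :=
    ((algebraMap (MvPowerSeries (Fin r) k ⧸ p) L).comp (Ideal.Quotient.mk p)).toAlgebra
  haveI : IsScalarTower (MvPowerSeries (Fin r) k) (MvPowerSeries (Fin r) k ⧸ p) L :=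
    ⟨fun a x l => by
      obtain ⟨x, rfl⟩ := Ideal.Quotient.mk_surjective x
      rw [← Ideal.Quotient.mk_eq_mk, ← Submodule.Quotient.mk_smul, Ideal.Quotient.mk_eq_mk, Ideal.Quotient.mk_eq_mk,
        smul_eq_mul]
      simp only [Algebra.smul_def, map_mul, RingHom.algebraMap_toAlgebra, RingHom.comp_apply, mul_assoc]⟩
  haveI := isRegularLocalRing_atPrime p
  haveI : IsNoetherianRing (MvPowerSeries (Fin r) k) := CohenLib.isNoetherianRing_mvPowerSeries (n := r) k
  refine detectsPrime_of_finrank_le p (ker_algebraMap p hL) (partials k r) s ?_ (add_height_eq p s φ hinj hfin).le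
  exact finrank_annihilator_le_of_separable p (partials k r) hL (fun i => MvPowerSeries.X i)
    (fun i j => (show partials k r i (MvPowerSeries.X j) = _ from MvPowerSeries.pderiv_X i j).trans (by simp [Pi.single_apply, eq_comm]))
    φ (X_mem_maximalIdeal p s φ hinj hfin)
    (fun c => ⟨_, (hC c).symm, fun i => by rw [partials_algebraMap]; exact zero_mem _⟩) K' hcomp

end NagataLib
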