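import Groth.Agent.CohenLib.Normalization
import Groth.Agent.NagataLib.PowerSeries
import Groth.Agent.NormalLib.CompleteLocal

/-!
# Normalisation with a prescribed coefficient field
-/

set_option autoImplicit false
set_option linter.style.haveILetI false

universe u

open IsLocalRing

namespace NagataLib

/-- Noether normalisation of a complete local domain with a prescribed coefficient field. -/
theorem exists_finite_injective {K : Type u} [Field K] (R : Type u) [CommRing R] [IsDomain R] [IsLocalRing R]
    [IsNoetherianRing R] [IsAdicComplete (maximalIdeal R) R] (g : K →+* R)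
    (hg : Function.Surjective ((residue R).comp g)) :
    ∃ (n : ℕ) (f : MvPowerSeries (Fin n) K →+* R), Function.Injective f ∧ f.Finite ∧
      ∀ c, f (MvPowerSeries.C c) = g c := by
  classical
  obtain ⟨n, x, M, hM, hn, hxm⟩ := CohenLib.exists_primary_family R
  let f := CohenLib.psHom (maximalIdeal R) g x hxm
  let P := MvPowerSeries (Fin n) K
  haveI := CohenLib.isRegularLocalRing_mvPowerSeries K n
  haveI := CohenLib.isAdicComplete_varsIdeal (n := n) K
  have hfC : ∀ c, f (MvPowerSeries.C c) = g c := CohenLib.psHom_C _ g x hxm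
  have hfX : ∀ i, f (MvPowerSeries.X i) = x i := CohenLib.psHom_X _ g x hxm
  have hres : Function.Surjective ((residue R).comp f) := fun r => by
    obtain ⟨c, hc⟩ := hg r
    exact ⟨MvPowerSeries.C c, by rw [RingHom.comp_apply, hfC]; exact hc⟩
  let J : Ideal R := (maximalIdeal P).map f
  have hJ : J = Ideal.span (Set.range x) := by
    show (maximalIdeal P).map f = _
    rw [CohenLib.maximalIdeal_mvPowerSeries_field, CohenLib.varsIdeal, Ideal.map_span, ← Set.range_comp]
    exact congrArg (fun h => Ideal.span (Set.range h)) (funext hfX)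
  have hJm : J ≤ maximalIdeal R := by
    rw [hJ, Ideal.span_le]
    rintro z ⟨i, rfl⟩
    exact hxm i
  haveI : IsHausdorff J R := ⟨fun z hz => IsHausdorff.haus (I := maximalIdeal R) inferInstance z fun k =>
    (hz k).mono (Submodule.smul_mono (Ideal.pow_right_mono hJm k) le_rfl)⟩
  letI : Algebra P R := f.toAlgebra
  haveI hfinJ : Module.Finite P (R ⧸ J) := by
    refine CohenLib.finite_of_pow_maximal_killed (P := P) hres M (R ⧸ J) ?_
    rw [eq_bot_iff]
    refine Submodule.smul_le.2 fun a ha z _ => ?_
    obtain ⟨z, rfl⟩ := Ideal.Quotient.mk_surjective z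
    rw [Submodule.mem_bot, Algebra.smul_def, Ideal.Quotient.algebraMap_eq, ← map_mul,
      Ideal.Quotient.eq_zero_iff_mem]
    exact Ideal.mul_mem_right _ _ (hJ ▸ hM ha)
  have hfin : f.Finite := by
    refine CohenLib.finite_of_complete J (CohenLib.varsIdeal K n) f
      (by rw [← CohenLib.maximalIdeal_mvPowerSeries_field]) ?_
    show (algebraMap P (R ⧸ J)).Finite
    exact RingHom.finite_algebraMap.2 hfinJ
  refine ⟨n, f, ?_, hfin, hfC⟩
  rw [RingHom.injective_iff_ker_eq_bot]
  by_contra hker
  letI : Algebra (P ⧸ RingHom.ker f) R := (Ideal.Quotient.lift (RingHom.ker f) f fun _ h => h).toAlgebra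
  haveI : IsScalarTower P (P ⧸ RingHom.ker f) R :=
    @IsScalarTower.of_algebraMap_eq P (P ⧸ RingHom.ker f) R _ _ _ _ _ _ fun _ => rfl
  haveI : Module.Finite P R := hfin
  haveI : Module.Finite (P ⧸ RingHom.ker f) R := Module.Finite.of_restrictScalars_finite P _ R
  have h1 : ringKrullDim R ≤ ringKrullDim (P ⧸ RingHom.ker f) := CohenLib.ringKrullDim_le_of_isIntegral _ _
  have h2 := CommAlgDim.ringKrullDim_quotient_lt (R := P) (I := RingHom.ker f) hker
  rw [CohenLib.ringKrullDim_mvPowerSeries_field] at h2
  exact lt_irrefl _ (h1.trans_lt (h2.trans_eq hn))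

/-- The quotient of a power series ring by a prime has a normalisation over the same coefficient field. -/
theorem exists_normalization {K : Type u} [Field K] {r : ℕ} (p : Ideal (MvPowerSeries (Fin r) K)) [p.IsPrime] :
    ∃ (s : ℕ) (φ : MvPowerSeries (Fin s) K →+* MvPowerSeries (Fin r) K ⧸ p), Function.Injective φ ∧ φ.Finite ∧
      ∀ c, φ (MvPowerSeries.C c) = Ideal.Quotient.mk p (MvPowerSeries.C c) := by
  let P := MvPowerSeries (Fin r) K
  haveI : Nontrivial (P ⧸ p) := Ideal.Quotient.nontrivial_iff.2 (Ideal.IsPrime.ne_top ‹_›)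
  haveI : IsLocalRing (P ⧸ p) := IsLocalRing.of_surjective' _ Ideal.Quotient.mk_surjective
  haveI : IsNoetherianRing P := CohenLib.isNoetherianRing_mvPowerSeries (n := r) K
  haveI := CohenLib.isAdicComplete_varsIdeal (n := r) K
  haveI : IsAdicComplete (maximalIdeal P) P := by rw [CohenLib.maximalIdeal_mvPowerSeries_field]; infer_instance
  haveI : IsAdicComplete (maximalIdeal (P ⧸ p)) (P ⧸ p) := NormalLib.isAdicComplete_quotient_local p
  refine exists_finite_injective (P ⧸ p) ((Ideal.Quotient.mk p).comp MvPowerSeries.C) fun z => ?_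
  obtain ⟨z, rfl⟩ := residue_surjective z
  obtain ⟨g, rfl⟩ := Ideal.Quotient.mk_surjective z
  refine ⟨MvPowerSeries.constantCoeff g, (Ideal.Quotient.eq.2 ?_).symm⟩
  rw [RingHom.comp_apply, ← map_sub, ← IsLocalRing.map_maximalIdeal_of_surjective (Ideal.Quotient.mk p) Ideal.Quotient.mk_surjective]
  refine Ideal.mem_map_of_mem _ ?_
  rw [mem_maximalIdeal, mem_nonunits_iff, MvPowerSeries.isUnit_iff_constantCoeff, map_sub,
    MvPowerSeries.constantCoeff_C, sub_self]
  exact not_isUnit_zero

end NagataLib
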