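import Mathlib.RingTheory.RegularLocalRing.Defs
import Mathlib.RingTheory.Localization.AtPrime.Basic
import Mathlib.RingTheory.Derivation.Basic
import Mathlib.RingTheory.Ideal.Cotangent
import Mathlib.LinearAlgebra.FiniteDimensional.Lemmas
import Mathlib.RingTheory.Ideal.Height

/-!
# Derivations detecting the conormal space of a prime
-/

set_option autoImplicit false
set_option linter.style.haveILetI false

universe u

open IsLocalRing

namespace NagataLib

variable {A : Type u} [CommRing A] (p : Ideal A) [p.IsPrime] {L : Type u} [Field L] [Algebra A L]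

/-- The vectors annihilated by the Jacobian of a prime. -/
def annihilator {N : ℕ} (D : Fin N → Derivation ℤ A A) : Submodule L (Fin N → L) where
  carrier := {v | ∀ f ∈ p, ∑ i, v i * algebraMap A L (D i f) = 0}
  zero_mem' := fun f _ => by simp
  add_mem' {v w} hv hw f hf := by
    simp only [Pi.add_apply, add_mul, Finset.sum_add_distrib, hv f hf, hw f hf, add_zero]
  smul_mem' c v hv f hf := by
    simp only [Pi.smul_apply, smul_eq_mul, mul_assoc, ← Finset.mul_sum, hv f hf, mul_zero]

/-- The prime is detected by derivations: an element with all derivatives in the prime lies in the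
symbolic square. -/
def DetectsPrime {ι : Type*} (D : ι → Derivation ℤ A A) : Prop :=
  ∀ f ∈ p, (∀ i, D i f ∈ p) → ∃ u ∉ p, u * f ∈ p ^ 2

/-- A regular point is detected as soon as the annihilator is small. -/
theorem detectsPrime_of_finrank_le [IsNoetherianRing A] [IsRegularLocalRing (Localization.AtPrime p)]
    (hker : RingHom.ker (algebraMap A L) = p) {N : ℕ} (D : Fin N → Derivation ℤ A A) (s : ℕ)
    (hs : Module.finrank L (annihilator (L := L) p D) ≤ s) (hdim : (s : WithBot ℕ∞) + p.height ≤ (N : WithBot ℕ∞)) :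
    DetectsPrime p D := by
  classical
  let Ap := Localization.AtPrime p
  let G := (maximalIdeal Ap).generators
  have hfg : (maximalIdeal Ap).FG := IsNoetherian.noetherian _
  have hGfin : G.Finite := Submodule.FG.finite_generators hfg
  let h := (maximalIdeal Ap).spanFinrank
  have hcard : hGfin.toFinset.card = h := by
    rw [← Set.ncard_eq_toFinset_card _ hGfin]
    exact Submodule.FG.generators_ncard hfg
  let y : Fin h → Ap := fun l => (hGfin.toFinset.equivFinOfCardEq hcard |>.symm l).1
  have hy : Ideal.span (Set.range y) = maximalIdeal Ap := by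
    rw [show Set.range y = G from Set.ext fun z => ⟨fun ⟨l, hl⟩ =>
      hl ▸ hGfin.mem_toFinset.1 (hGfin.toFinset.equivFinOfCardEq hcard |>.symm l).2, fun hz =>
      ⟨hGfin.toFinset.equivFinOfCardEq hcard ⟨z, hGfin.mem_toFinset.2 hz⟩, by simp [y]⟩⟩]
    exact Submodule.span_generators _
  choose g t hg using fun l => IsLocalization.exists_mk'_eq (M := p.primeCompl) (S := Ap) (y l)
  have hgy : ∀ l, algebraMap A Ap (g l) = y l * algebraMap A Ap (t l).1 := fun l => by
    rw [← hg l, IsLocalization.mk'_spec]
  have hyg : ∀ l, algebraMap A Ap (g l) ∈ maximalIdeal Ap := fun l => by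
    rw [hgy l]
    exact Ideal.mul_mem_right _ _ (hy ▸ Ideal.subset_span ⟨l, rfl⟩)
  have hgp : ∀ l, g l ∈ p := fun l => by
    rw [← IsLocalization.AtPrime.comap_maximalIdeal Ap p]
    exact hyg l
  have hgen : maximalIdeal Ap = Ideal.span (Set.range fun l => algebraMap A Ap (g l)) := by
    rw [← hy]
    refine le_antisymm (Ideal.span_le.2 ?_) (Ideal.span_le.2 ?_)
    · rintro _ ⟨l, rfl⟩
      obtain ⟨w, hw⟩ := IsLocalization.map_units Ap (t l)
      have h1 : y l = algebraMap A Ap (g l) * (↑w⁻¹ : Ap) := by
        rw [hgy l, ← hw, Units.mul_inv_cancel_right]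
      rw [h1]
      exact Ideal.mul_mem_right _ _ (Ideal.subset_span ⟨l, rfl⟩)
    · rintro _ ⟨l, rfl⟩
      rw [SetLike.mem_coe]
      show algebraMap A Ap (g l) ∈ _
      rw [hgy l]
      exact Ideal.mul_mem_right _ _ (Ideal.subset_span ⟨l, rfl⟩)
  have hexp : ∀ f ∈ p, ∃ u ∉ p, ∃ c : Fin h → A, u * f = ∑ l, c l * g l := by
    intro f hf
    have hf' : algebraMap A Ap f ∈ (Ideal.span (Set.range g)).map (algebraMap A Ap) := by
      rw [Ideal.map_span, ← Set.range_comp]
      show algebraMap A Ap f ∈ Ideal.span (Set.range fun l => algebraMap A Ap (g l))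
      rw [← hgen, ← IsLocalization.AtPrime.map_eq_maximalIdeal p Ap]
      exact Ideal.mem_map_of_mem _ hf
    obtain ⟨u, hu, hmem⟩ :=
      (IsLocalization.algebraMap_mem_map_algebraMap_iff p.primeCompl Ap (Ideal.span (Set.range g)) f).1 hf'
    obtain ⟨c, hc⟩ := Ideal.mem_span_range_iff_exists_fun.1 hmem
    exact ⟨u, hu, c, hc.symm⟩
  have hp0 : ∀ a ∈ p, algebraMap A L a = 0 := fun a ha => RingHom.mem_ker.1 (hker.ge ha)
  have hpne : ∀ a ∉ p, algebraMap A L a ≠ 0 := fun a ha h0 => ha (hker.le (RingHom.mem_ker.2 h0))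
  let M : (Fin N → L) →ₗ[L] (Fin h → L) := LinearMap.pi fun l =>
    ∑ i, algebraMap A L (D i (g l)) • LinearMap.proj i
  have hM : ∀ v l, M v l = ∑ i, v i * algebraMap A L (D i (g l)) := fun v l => by
    simp [M, LinearMap.sum_apply, Algebra.smul_def, mul_comm]
  have hkerM : LinearMap.ker M ≤ annihilator (L := L) p D := by
    intro v hv f hf
    obtain ⟨u, hu, c, huc⟩ := hexp f hf
    have h1 : ∑ i, v i * algebraMap A L (D i (u * f)) =
        algebraMap A L u * ∑ i, v i * algebraMap A L (D i f) := by
      rw [Finset.mul_sum]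
      refine Finset.sum_congr rfl fun i _ => ?_
      rw [Derivation.leibniz, smul_eq_mul, smul_eq_mul, map_add, map_mul, map_mul, hp0 f hf, zero_mul, add_zero]
      ring
    have h2 : ∑ i, v i * algebraMap A L (D i (u * f)) = 0 := by
      rw [huc]
      simp only [map_sum, Derivation.leibniz, smul_eq_mul, map_add, map_mul, hp0 _ (hgp _), zero_mul, add_zero,
        Finset.mul_sum]
      rw [Finset.sum_comm]
      refine Finset.sum_eq_zero fun l _ => ?_
      have h3 : ∑ i, v i * algebraMap A L (D i (g l)) = 0 := by rw [← hM, LinearMap.mem_ker.1 hv]; rfl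
      rw [← mul_zero (algebraMap A L (c l)), ← h3, Finset.mul_sum]
      exact Finset.sum_congr rfl fun i _ => by ring
    exact (mul_eq_zero.1 (h1.symm.trans h2)).resolve_left (hpne u hu)
  have hh : (h : WithBot ℕ∞) = p.height := by
    rw [← IsLocalization.AtPrime.ringKrullDim_eq_height p Ap, ← (isRegularLocalRing_iff Ap).1 inferInstance]
  have hrange : LinearMap.range M = ⊤ := by
    refine Submodule.eq_top_of_finrank_eq (le_antisymm (Submodule.finrank_le _) ?_)
    have h1 := M.finrank_range_add_finrank_ker
    have h2 := (Submodule.finrank_mono hkerM).trans hs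
    rw [← hh] at hdim
    have h3 : s + h ≤ N := by exact_mod_cast hdim
    rw [Module.finrank_fin_fun] at h1 ⊢
    omega
  intro f hf hDf
  obtain ⟨u, hu, c, huc⟩ := hexp f hf
  have hc : ∀ l, algebraMap A L (c l) = 0 := by
    intro l
    obtain ⟨v, hv⟩ := LinearMap.range_eq_top.1 hrange (Pi.single l 1)
    have hzero : ∑ l', algebraMap A L (c l') * M v l' = 0 := by
      simp only [hM, Finset.mul_sum]
      rw [Finset.sum_comm]
      refine Finset.sum_eq_zero fun i _ => ?_
      have h4 : algebraMap A L (D i (u * f)) = 0 := by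
        rw [Derivation.leibniz, smul_eq_mul, smul_eq_mul, map_add, map_mul, map_mul, hp0 f hf, zero_mul, add_zero,
          hp0 _ (hDf i), mul_zero]
      rw [huc] at h4
      simp only [map_sum, Derivation.leibniz, smul_eq_mul, map_add, map_mul, hp0 _ (hgp _), zero_mul, add_zero] at h4
      rw [← mul_zero (v i), ← h4, Finset.mul_sum]
      exact Finset.sum_congr rfl fun l' _ => by ring
    rw [hv, Finset.sum_eq_single l] at hzero
    · simpa using hzero
    · intro l' _ hne
      rw [Pi.single_eq_of_ne hne, mul_zero]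
    · exact fun hn => absurd (Finset.mem_univ l) hn
  refine ⟨u, hu, ?_⟩
  rw [huc, pow_two]
  exact Ideal.sum_mem _ fun l _ => Ideal.mul_mem_mul (hker.le (RingHom.mem_ker.2 (hc l))) (hgp l)

end NagataLib
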