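import Groth.Agent.NagataLib.Descend
import Mathlib.RingTheory.Localization.Integral
import Mathlib.FieldTheory.Separable
import Mathlib.RingTheory.Localization.FractionRing

/-!
# The annihilator of the Jacobian of a prime with separable normalisation
-/

set_option autoImplicit false
set_option linter.style.haveILetI false

universe u

open IsLocalRing

namespace NagataLib

variable {A : Type u} [CommRing A] [IsLocalRing A] [IsNoetherianRing A] (p : Ideal A) [p.IsPrime] {L : Type u} [Field L]
  [Algebra A L] [Algebra (A ⧸ p) L] [IsScalarTower A (A ⧸ p) L] {N : ℕ} (D : Fin N → Derivation ℤ A A)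

/-- With a separable normalisation in `s` variables the annihilator has dimension at most `s`. -/
theorem finrank_annihilator_le_of_separable (hinj : Function.Injective (algebraMap (A ⧸ p) L))
    (T : Fin N → A) (hT : ∀ i j, D i (T j) = if i = j then 1 else 0)
    {k : Type u} [Field k] {s : ℕ} (φ : MvPowerSeries (Fin s) k →+* A ⧸ p)
    (hX : ∀ j, φ (MvPowerSeries.X j) ∈ (maximalIdeal A).map (Ideal.Quotient.mk p))
    (hC : ∀ c, ∃ a, Ideal.Quotient.mk p a = φ (MvPowerSeries.C c) ∧ ∀ i, D i a ∈ p)
    (K' : Type u) [Field K'] [Algebra (MvPowerSeries (Fin s) k) K'] [IsFractionRing (MvPowerSeries (Fin s) k) K']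
    [Algebra K' L] [Algebra.IsSeparable K' L]
    (hcomp : ∀ g, algebraMap K' L (algebraMap _ K' g) = algebraMap (A ⧸ p) L (φ g)) :
    Module.finrank L (annihilator (L := L) p D) ≤ s := by
  classical
  haveI : Nontrivial (A ⧸ p) := Ideal.Quotient.nontrivial_iff.2 (Ideal.IsPrime.ne_top ‹_›)
  haveI : IsLocalRing (A ⧸ p) := IsLocalRing.of_surjective' _ Ideal.Quotient.mk_surjective
  have hmax : (maximalIdeal A).map (Ideal.Quotient.mk p) = maximalIdeal (A ⧸ p) :=
    IsLocalRing.map_maximalIdeal_of_surjective _ Ideal.Quotient.mk_surjective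
  choose x hx using fun j => Ideal.Quotient.mk_surjective (φ (MvPowerSeries.X j))
  let Φ : (Fin N → L) →ₗ[L] (Fin s → L) := LinearMap.pi fun j =>
    ∑ i, algebraMap A L (D i (x j)) • LinearMap.proj i
  have hΦ : ∀ v j, Φ v j = ∑ i, v i * algebraMap A L (D i (x j)) := fun v j => by
    simp [Φ, LinearMap.sum_apply, Algebra.smul_def, mul_comm]
  let Φ' : annihilator (L := L) p D →ₗ[L] (Fin s → L) := Φ ∘ₗ (annihilator (L := L) p D).subtype
  have hΦinj : Function.Injective Φ' := by
    rw [injective_iff_map_eq_zero]
    rintro ⟨v, hv⟩ hv0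
    obtain ⟨δ, hδ, hval⟩ := exists_descend p D v hv
    have hδX : ∀ j, δ (φ (MvPowerSeries.X j)) = 0 := fun j => by
      rw [← hx j, hδ, ← hΦ]
      exact congrFun hv0 j
    have hδC : ∀ c, δ (φ (MvPowerSeries.C c)) = 0 := fun c => by
      obtain ⟨a, ha, hDa⟩ := hC c
      rw [← ha, hδ]
      exact Finset.sum_eq_zero fun i _ => by rw [algebraMap_eq_zero_of_mem p (hDa i), mul_zero]
    have hδφ : ∀ g, δ (φ g) = 0 := fun g =>
      derivation_series_eq_zero φ (fun j => hmax ▸ hX j) δ _ (Submodule.fg_span (Set.finite_range v)) hval 1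
        (fun j => by rw [pow_one]; exact hδX j) g (fun I => hδC _) fun I _ i => one_dvd _
    have hδ0 : ∀ y, δ y = 0 := by
      intro y
      let η := algebraMap (A ⧸ p) L y
      have hsep : IsSeparable K' η := Algebra.IsSeparable.isSeparable K' η
      let P := IsLocalization.integerNormalization (nonZeroDivisors (MvPowerSeries (Fin s) k)) (minpoly K' η)
      obtain ⟨b, hb⟩ := IsLocalization.integerNormalization_map_to_map
        (nonZeroDivisors (MvPowerSeries (Fin s) k)) (minpoly K' η)
      have hev : ∀ Q : Polynomial (MvPowerSeries (Fin s) k),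
          algebraMap (A ⧸ p) L (Q.eval₂ φ y) = Polynomial.aeval η (Q.map (algebraMap _ K')) := fun Q => by
        rw [Polynomial.hom_eval₂, Polynomial.aeval_def, Polynomial.eval₂_map]
        exact congrArg (fun ψ => Q.eval₂ ψ η) (RingHom.ext fun g => (hcomp g).symm)
      have hP0 : P.eval₂ φ y = 0 := by
        refine hinj ?_
        rw [hev, show P.map (algebraMap _ K') = _ from hb, map_zero, algebra_compatible_smul K' (b : MvPowerSeries (Fin s) k),
          map_smul, minpoly.aeval, smul_zero]
      have hP' : algebraMap (A ⧸ p) L (P.derivative.eval₂ φ y) ≠ 0 := by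
        rw [hev, ← Polynomial.derivative_map, show P.map (algebraMap _ K') = _ from hb,
          algebra_compatible_smul K' (b : MvPowerSeries (Fin s) k), Polynomial.derivative_smul, map_smul,
          Algebra.smul_def]
        refine mul_ne_zero ?_ (Polynomial.Separable.aeval_derivative_ne_zero hsep (minpoly.aeval K' η))
        rw [map_ne_zero]
        exact IsFractionRing.to_map_ne_zero_of_mem_nonZeroDivisors b.2
      have h := derivation_eval₂ p φ δ hδφ P y
      rw [hP0, map_zero, Algebra.smul_def, eq_comm, mul_eq_zero] at h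
      exact h.resolve_left hP'
    refine Subtype.ext (funext fun j => ?_)
    have h1 := hδ0 (Ideal.Quotient.mk p (T j))
    rw [hδ, Finset.sum_eq_single j] at h1
    · simpa [hT] using h1
    · intro i _ hi
      simp [hT, hi]
    · exact fun hn => absurd (Finset.mem_univ j) hn
  have h1 := LinearMap.finrank_le_finrank_of_injective hΦinj
  rwa [Module.finrank_fin_fun] at h1

end NagataLib
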